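import Cfsg.Agent.Lib.Pyramidal.NoGL.ThreeSmall

/-!
# Dimension three: the kernel is abelian
-/

set_option autoImplicit false
set_option linter.unusedSectionVars false
set_option linter.style.haveILetI false

namespace Cfsg.Agent.Pyramidal

universe u

theorem rMap_t : (tMap * sMap) * tMap * (tMap * sMap) = tMap := LinearEquiv.ext (by decide)

theorem gMap_t : gMap * tMap = tMap * gMap := LinearEquiv.ext (by decide)

variable {X : Type u} [Group X] {m : Model X V3}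

/-- Products induce products. -/
theorem Model.mul_induces {x y : X} {A B : V3 ≃ₗ[ZMod 2] V3}
    (hx : ∀ v, x * m.ι v * x⁻¹ = m.ι (A v)) (hy : ∀ v, y * m.ι v * y⁻¹ = m.ι (B v)) (v : V3) :
    x * y * m.ι v * (x * y)⁻¹ = m.ι ((A * B) v) := by
  calc x * y * m.ι v * (x * y)⁻¹ = x * (y * m.ι v * y⁻¹) * x⁻¹ := by group
    _ = m.ι ((A * B) v) := by rw [hy, hx]; rfl

/-- Elements of the kernel do not change the induced map. -/
theorem Model.mul_ker_induces {x c : X} {A : V3 ≃ₗ[ZMod 2] V3}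
    (hx : ∀ v, x * m.ι v * x⁻¹ = m.ι (A v)) (hc : c ∈ m.ker) (v : V3) :
    x * c * m.ι v * (x * c)⁻¹ = m.ι (A v) := by
  calc x * c * m.ι v * (x * c)⁻¹ = x * (c * m.ι v * c⁻¹) * x⁻¹ := by group
    _ = m.ι (A v) := by rw [m.mem_ker_iff.1 hc, hx]

namespace Special

variable (h : Special m)
include h

/-- Elements inducing the same map act equally modulo the vectors. -/
theorem conj_congr {x y : X} (hxy : ∀ v, x * m.ι v * x⁻¹ = y * m.ι v * y⁻¹) {p : X ⧸ m.vecs}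
    (hp : p ∈ m.kb) :
    (QuotientGroup.mk x : X ⧸ m.vecs) * p * (QuotientGroup.mk x)⁻¹ =
      QuotientGroup.mk y * p * (QuotientGroup.mk y)⁻¹ := by
  have hn := m.mk_mem_kb (m.inv_mul_mem_ker hxy)
  have hc := h.kb_comm hn hp
  rw [QuotientGroup.mk_mul, QuotientGroup.mk_inv] at hc
  generalize (QuotientGroup.mk x : X ⧸ m.vecs) = a at hc ⊢
  generalize (QuotientGroup.mk y : X ⧸ m.vecs) = b at hc ⊢
  calc a * p * a⁻¹ = a * (p * (a⁻¹ * b)) * b⁻¹ := by group
    _ = a * (a⁻¹ * b * p) * b⁻¹ := by rw [hc]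
    _ = b * p * b⁻¹ := by group

/-- The product of an element and its image. -/
def delta (x : X) : m.kb →* m.kb :=
  MonoidHom.mk' (fun p => p * MulAut.conjNormal (QuotientGroup.mk x) p) fun p q => by
    have hc : ∀ a b : m.kb, a * b = b * a := fun a b => Subtype.ext (h.kb_comm a.2 b.2)
    rw [map_mul, ← mul_assoc, mul_assoc p q, hc q, ← mul_assoc, mul_assoc]

theorem mem_delta_ker {x : X} {p : m.kb} : p ∈ (h.delta x).ker ↔
    (QuotientGroup.mk x : X ⧸ m.vecs) * (p : X ⧸ m.vecs) * (QuotientGroup.mk x)⁻¹ =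
      (p : X ⧸ m.vecs) := by
  rw [MonoidHom.mem_ker, Subtype.ext_iff]
  show (p : X ⧸ m.vecs) * (MulAut.conjNormal (QuotientGroup.mk x) p : m.kb) = 1 ↔ _
  rw [MulAut.conjNormal_apply, mul_eq_one_iff_inv_eq, h.kb_inv p.2, eq_comm]

/-- Fixed points of the element of order three give no room. -/
theorem fixed_small {ρ : X} (hρ : ∀ v, ρ * m.ι v * ρ⁻¹ = m.ι ((tMap * sMap) v))
    {a b c : X ⧸ m.vecs} (ha : a ∈ m.kb) (hb : b ∈ m.kb) (hc : c ∈ m.kb)
    (fa : QuotientGroup.mk ρ * a * (QuotientGroup.mk ρ)⁻¹ = a)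
    (fb : QuotientGroup.mk ρ * b * (QuotientGroup.mk ρ)⁻¹ = b)
    (fc : QuotientGroup.mk ρ * c * (QuotientGroup.mk ρ)⁻¹ = c)
    (ha1 : a ≠ 1) (hb1 : b ≠ 1) (hab : a ≠ b) : c = 1 ∨ c = a ∨ c = b ∨ c = a * b := by
  by_contra hno
  push Not at hno
  obtain ⟨hc1, hca, hcb, hcab⟩ := hno
  have hq : ∀ p ∈ m.kb, p ≠ 1 → QuotientGroup.mk ρ * p * (QuotientGroup.mk ρ)⁻¹ = p →
      m.qb p = ![0, 1, 0] := by
    intro p hp hp1 fp
    have e := h.qb_conj hρ hp
    rw [fp] at e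
    exact (r_fixed _ e.symm).resolve_left fun e0 => hp1 ((h.qb_eq_zero hp).1 e0)
  have hm : ∀ p q, p ∈ m.kb → q ∈ m.kb → p ≠ q → QuotientGroup.mk ρ * p * (QuotientGroup.mk ρ)⁻¹ = p →
      QuotientGroup.mk ρ * q * (QuotientGroup.mk ρ)⁻¹ = q → m.qb (p * q) = ![0, 1, 0] := by
    intro p q hp hq' hne fp fq
    refine hq _ (mul_mem hp hq') (fun e => hne ?_) (by rw [← conj_mul, fp, fq])
    rw [eq_inv_of_mul_eq_one_left e, h.kb_inv hq']
  have e := h.qb_bilin ha hb hc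
  rw [hm a (b * c) ha (mul_mem hb hc) (fun e => hcab (by
      rw [e, h.kb_comm hb hc, mul_assoc, h.kb_sq hb, mul_one])) fa (by rw [← conj_mul, fb, fc]),
    hm b c hb hc (Ne.symm hcb) fb fc, hm a b ha hb hab fa fb, hm a c ha hc (Ne.symm hca) fa fc,
    hq a ha ha1 fa, hq b hb hb1 fb, hq c hc hc1 fc] at e
  exact absurd e (by decide)

/-- Lifting a fixed point. -/
theorem exists_lift_fixed [Finite X] (hK : IsPGroup 2 m.ker) {ρ : X} (hρ3 : ρ ^ 3 = 1)
    {p : X ⧸ m.vecs} (hp : p ∈ m.kb) (fp : QuotientGroup.mk ρ * p * (QuotientGroup.mk ρ)⁻¹ = p) :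
    ∃ i ∈ m.ker, QuotientGroup.mk i = p ∧ ρ * i * ρ⁻¹ = i := by
  obtain ⟨y, hy, rfl⟩ := m.exists_mk_kb hp
  obtain ⟨z, hz, hzf⟩ := exists_fixed_coset (hK.to_le m.vecs_le_ker) (fun z => ρ * z * ρ⁻¹) y
    (fun c hc => (QuotientGroup.eq_one_iff _).1 (by
      rw [QuotientGroup.mk_mul, QuotientGroup.mk_mul, QuotientGroup.mk_mul, QuotientGroup.mk_mul,
        QuotientGroup.mk_inv, QuotientGroup.mk_inv, (QuotientGroup.eq_one_iff _).2 hc, mul_one, fp,
        inv_mul_cancel]))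
    (fun z => by
      calc ρ * (ρ * (ρ * z * ρ⁻¹) * ρ⁻¹) * ρ⁻¹ = ρ ^ 3 * z * (ρ ^ 3)⁻¹ := by
            simp only [pow_succ, pow_zero, one_mul, mul_inv_rev, mul_assoc]
        _ = z := by rw [hρ3, one_mul, inv_one, mul_one])
  refine ⟨z, ?_, (QuotientGroup.eq.2 hz).symm, hzf⟩
  rw [← mul_inv_cancel_left y z]
  exact mul_mem hy (m.vecs_le_ker hz)

/-- A lift of the transvection centralising a quaternion group gives an involution. -/
theorem no_quaternion [Finite X] (hK : IsPGroup 2 m.ker) {ρ : X} (hρ3 : ρ ^ 3 = 1)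
    (hρ : ∀ v, ρ * m.ι v * ρ⁻¹ = m.ι ((tMap * sMap) v)) {T : X}
    (hT : ∀ v, T * m.ι v * T⁻¹ = m.ι (tMap v)) {a b : X ⧸ m.vecs} (ha : a ∈ m.kb) (hb : b ∈ m.kb)
    (ha1 : a ≠ 1) (hb1 : b ≠ 1) (hab : a ≠ b)
    (fa : QuotientGroup.mk ρ * a * (QuotientGroup.mk ρ)⁻¹ = a)
    (fb : QuotientGroup.mk ρ * b * (QuotientGroup.mk ρ)⁻¹ = b)
    (ta : QuotientGroup.mk T * a * (QuotientGroup.mk T)⁻¹ = a)
    (tb : QuotientGroup.mk T * b * (QuotientGroup.mk T)⁻¹ = b) : False := by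
  obtain ⟨i, hi, rfl, hρi⟩ := h.exists_lift_fixed hK hρ3 ha fa
  obtain ⟨j, hj, rfl, hρj⟩ := h.exists_lift_fixed hK hρ3 hb fb
  have hρij : ρ * (i * j) * ρ⁻¹ = i * j := by rw [← conj_mul, hρi, hρj]
  have hsq : ∀ k ∈ m.ker, (QuotientGroup.mk k : X ⧸ m.vecs) ≠ 1 → ρ * k * ρ⁻¹ = k →
      m.sqv k = ![0, 1, 0] := by
    intro k hk hk1 fk
    have e : (tMap * sMap) (m.sqv k) = m.sqv k := m.ι_inj (by
      rw [← hρ, h.ι_sqv hk, ← conj_mul, fk])
    refine (r_fixed _ e).resolve_left fun e0 => hk1 ?_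
    rw [← h.qb_eq_zero (m.mk_mem_kb hk), m.qb_mk hk, e0]
  set z := m.ι ![0, 1, 0] with hz
  have hii : i * i = z := by rw [← h.ι_sqv hi, hsq i hi ha1 hρi]
  have hab' : (QuotientGroup.mk (i * j) : X ⧸ m.vecs) ≠ 1 := fun e => hab (by
    rw [QuotientGroup.mk_mul] at e
    rw [eq_inv_of_mul_eq_one_left e, h.kb_inv (m.mk_mem_kb hj)])
  have hji : j * i = i * j * z := by
    rw [h.swap hi hj, hsq i hi ha1 hρi, hsq j hj hb1 hρj, hsq _ (mul_mem hi hj) hab' hρij,
      vec_add_self, zero_add]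
  have hz1 : z ≠ 1 := fun e => absurd (m.ι_eq_one.1 e) (by decide)
  have hzz : z * z = 1 := m.ι_sq _
  have hzi : z * i = i * z := (hi _).symm
  have hzj : z * j = j * z := (hj _).symm
  have hij : i * j = j * i * z := by rw [hji, mul_assoc, hzz, mul_one]
  have ci : i * j * i⁻¹ = j * z := by
    rw [mul_inv_eq_iff_eq_mul, hij, mul_assoc j z i, hzi, ← mul_assoc]
  have cj : j * i * j⁻¹ = i * z := by
    rw [mul_inv_eq_iff_eq_mul, hji, mul_assoc i z j, hzj, ← mul_assoc]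
  -- the fixed lift of the transvection
  obtain ⟨x, hxT, hx⟩ := exists_fixed_coset hK (fun z => ρ * z * ρ) T
    (fun c hc => m.inv_mul_mem_ker fun v => by
      rw [hT, m.mul_induces (m.mul_induces hρ (m.mul_ker_induces hT hc)) hρ, rMap_t])
    (fun z => by
      calc ρ * (ρ * (ρ * z * ρ) * ρ) * ρ = ρ ^ 3 * z * ρ ^ 3 := by
            simp only [pow_succ, pow_zero, one_mul, mul_assoc]
        _ = z := by rw [hρ3, one_mul, mul_one])
  have hxi : ∀ v, x * m.ι v * x⁻¹ = m.ι (tMap v) := fun v => by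
    have := m.mul_ker_induces hT hxT v
    rwa [mul_inv_cancel_left] at this
  have hρx : ρ⁻¹ * x = x * ρ := by
    rw [inv_mul_eq_iff_eq_mul, ← mul_assoc]; exact hx.symm
  have hxc : x * z * x⁻¹ = z := (hxi _).trans (congrArg m.ι (by decide))
  have he : ∀ k ∈ m.ker, ρ * k * ρ⁻¹ = k →
      (QuotientGroup.mk x : X ⧸ m.vecs) * QuotientGroup.mk k * (QuotientGroup.mk x)⁻¹ =
        QuotientGroup.mk k → x * k * x⁻¹ = k ∨ x * k * x⁻¹ = k * z := by
    intro k hk fk tk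
    rw [← QuotientGroup.mk_mul, ← QuotientGroup.mk_inv, ← QuotientGroup.mk_mul, eq_comm,
      QuotientGroup.eq] at tk
    obtain ⟨v, hv⟩ := tk
    have hkv : x * k * x⁻¹ = k * m.ι v := by rw [hv, mul_inv_cancel_left]
    have hf : ρ * (x * k * x⁻¹) * ρ⁻¹ = x * k * x⁻¹ := by
      have hk' : ρ⁻¹ * k * ρ = k := by
        calc ρ⁻¹ * k * ρ = ρ⁻¹ * (ρ * k * ρ⁻¹) * ρ := by rw [fk]
          _ = k := by group
      have hρx' : ρ * x = x * ρ⁻¹ := by rw [eq_mul_inv_iff_mul_eq]; exact hx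
      calc ρ * (x * k * x⁻¹) * ρ⁻¹ = (ρ * x) * k * (ρ * x)⁻¹ := by group
        _ = x * (ρ⁻¹ * k * ρ) * x⁻¹ := by rw [hρx']; group
        _ = x * k * x⁻¹ := by rw [hk']
    rw [hkv, ← conj_mul, fk] at hf
    have hv' := m.ι_inj ((hρ v).symm.trans (mul_left_cancel hf))
    rcases r_fixed v hv' with rfl | rfl
    · exact Or.inl (by rw [hkv, m.ι_zero, mul_one])
    · exact Or.inr hkv
  have tx : ∀ {p : X ⧸ m.vecs}, p ∈ m.kb →
      QuotientGroup.mk T * p * (QuotientGroup.mk T)⁻¹ = p →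
      QuotientGroup.mk x * p * (QuotientGroup.mk x)⁻¹ = p := fun hp e =>
    (h.conj_congr (fun v => by rw [hxi, hT]) hp).trans e
  obtain ⟨c, hc, hρc, hci, hcj⟩ : ∃ c ∈ m.ker, ρ * c * ρ⁻¹ = c ∧
      c * i * c⁻¹ = x * i * x⁻¹ ∧ c * j * c⁻¹ = x * j * x⁻¹ := by
    rcases he i hi hρi (tx ha ta) with e | e <;> rcases he j hj hρj (tx hb tb) with f | f <;>
      rw [e, f]
    · exact ⟨1, one_mem _, by simp, by simp, by simp⟩
    · exact ⟨i, hi, hρi, by group, ci⟩
    · exact ⟨j, hj, hρj, cj, by group⟩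
    · refine ⟨i * j, mul_mem hi hj, hρij, ?_, ?_⟩
      · calc i * j * i * (i * j)⁻¹ = i * (j * i * j⁻¹) * i⁻¹ := by group
          _ = i * (i * z) * i⁻¹ := by rw [cj]
          _ = i * (z * i) * i⁻¹ := by rw [hzi]
          _ = i * z := by group
      · calc i * j * j * (i * j)⁻¹ = i * j * i⁻¹ := by group
          _ = j * z := ci
  set y := x * c with hy
  have hyt : ∀ v, y * m.ι v * y⁻¹ = m.ι (tMap v) := m.mul_ker_induces hxi hc
  have hyfix : ∀ k, x * k * x⁻¹ = k ∨ x * k * x⁻¹ = k * z → c * k * c⁻¹ = x * k * x⁻¹ →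
      y * k * y⁻¹ = k := by
    intro k hk e
    calc y * k * y⁻¹ = x * (c * k * c⁻¹) * x⁻¹ := by rw [hy]; group
      _ = k := by
        rw [e]
        rcases hk with e' | e'
        · rw [e', e']
        · rw [e', ← conj_mul, e', hxc, mul_assoc, hzz, mul_one]
  have hyi := hyfix i (he i hi hρi (tx ha ta)) hci
  have hyj := hyfix j (he j hj hρj (tx hb tb)) hcj
  have hρy : ρ * y * ρ = y := by
    calc ρ * y * ρ = (ρ * x * ρ) * (ρ⁻¹ * c * ρ) := by rw [hy]; group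
      _ = y := by
        rw [show ρ⁻¹ * c * ρ = c by
          calc ρ⁻¹ * c * ρ = ρ⁻¹ * (ρ * c * ρ⁻¹) * ρ := by rw [hρc]
            _ = c := by group, hx]
  have hρyy : ρ * (y * y) * ρ⁻¹ = y * y := by
    calc ρ * (y * y) * ρ⁻¹ = (ρ * y * ρ) * (ρ⁻¹ * y * ρ⁻¹) := by group
      _ = y * y := by
        rw [show ρ⁻¹ * y * ρ⁻¹ = y by
          calc ρ⁻¹ * y * ρ⁻¹ = ρ⁻¹ * (ρ * y * ρ) * ρ⁻¹ := by rw [hρy]
            _ = y := by group, hρy]
  have hyy : y * y ∈ m.ker := m.mem_ker_iff.2 fun v => by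
    rw [m.mul_induces hyt hyt, LinearEquiv.mul_apply, tMap_involutive]
  have hcom : ∀ k, y * k * y⁻¹ = k → y * y * k = k * (y * y) := fun k e => by
    rw [← mul_inv_eq_iff_eq_mul]
    calc y * y * k * (y * y)⁻¹ = y * (y * k * y⁻¹) * y⁻¹ := by group
      _ = k := by rw [e, e]
  have fyy : QuotientGroup.mk ρ * QuotientGroup.mk (y * y) * (QuotientGroup.mk ρ)⁻¹ =
      (QuotientGroup.mk (y * y) : X ⧸ m.vecs) := by
    rw [← QuotientGroup.mk_mul, ← QuotientGroup.mk_inv, ← QuotientGroup.mk_mul, hρyy]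
  have hcase : ∀ k, k ∈ m.ker → (QuotientGroup.mk k : X ⧸ m.vecs) = QuotientGroup.mk (y * y) →
      ∀ l, l ∈ m.ker → y * l * y⁻¹ = l → k * l = l * k := by
    intro k hk e l hl fl
    obtain ⟨v, hv⟩ := QuotientGroup.eq.1 e
    have hkv : y * y = k * m.ι v := by rw [hv, mul_inv_cancel_left]
    have h1 := hcom l fl
    rw [hkv, mul_assoc, ← hl v, ← mul_assoc, ← mul_assoc] at h1
    exact mul_right_cancel h1
  have hne : ¬(i * j = j * i) := fun e => hz1 (by
    rw [hji] at e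
    exact left_eq_mul.1 e)
  rcases h.fixed_small hρ (m.mk_mem_kb hi) (m.mk_mem_kb hj) (m.mk_mem_kb hyy) fa fb fyy ha1 hb1 hab
    with e | e | e | e
  · obtain ⟨v, hv⟩ := (QuotientGroup.eq_one_iff _).1 e
    have hv' : (tMap * sMap) v = v := m.ι_inj (by rw [← hρ, hv, hρyy])
    refine m.not_mem_ker hyt tMap_ne ?_
    rcases r_fixed v hv' with rfl | rfl
    · rw [m.ι_zero] at hv
      exact m.vecs_le_ker (m.mem_vecs.2 hv.symm)
    · have hyi' : y * i = i * y := mul_inv_eq_iff_eq_mul.1 hyi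
      have h1 : y * i * (y * i) = 1 := by
        rw [mul_assoc, ← mul_assoc i y, ← hyi', mul_assoc y i i, hii, ← mul_assoc, ← hv, hzz]
      exact (Subgroup.mul_mem_cancel_right _ hi).1 (m.vecs_le_ker (m.mem_vecs.2 h1))
  · exact hne (hcase i hi e.symm j hj hyj)
  · exact hne (hcase j hj e.symm i hi hyi).symm
  · have h1 := hcase _ (mul_mem hi hj) (by rw [QuotientGroup.mk_mul, e]) i hi hyi
    exact hne (mul_left_cancel (h1.symm.trans (mul_assoc i j i)))

/-- The image of the transvection is its fixed space. -/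
theorem delta_range [Finite X] (hK : IsPGroup 2 m.ker) (h64 : Nat.card m.kb = 64) {T : X}
    (hT : ∀ v, T * m.ι v * T⁻¹ = m.ι (tMap v)) : (h.delta T).range = (h.delta T).ker := by
  classical
  have hle : (h.delta T).range ≤ (h.delta T).ker := by
    rintro _ ⟨p, rfl⟩
    rw [h.mem_delta_ker]
    show _ * ((p : X ⧸ m.vecs) * (MulAut.conjNormal (QuotientGroup.mk T) p : m.kb)) * _ =
      (p : X ⧸ m.vecs) * (MulAut.conjNormal (QuotientGroup.mk T) p : m.kb)
    have hp' := m.kb_normal.conj_mem _ p.2 (QuotientGroup.mk T)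
    rw [MulAut.conjNormal_apply, ← conj_mul, h.kb_comm p.2 hp']
    congr 1
    have h1 := h.conj_congr (x := T * T) (y := 1) (fun v => by
      rw [m.mul_induces hT hT, LinearEquiv.mul_apply, tMap_involutive]; group) p.2
    rw [QuotientGroup.mk_one, one_mul, inv_one, mul_one, QuotientGroup.mk_mul] at h1
    refine Eq.trans ?_ h1
    group
  set K := (h.delta T).ker with hKdef
  have hmul : Nat.card K * Nat.card (h.delta T).range = 64 := by
    rw [← Subgroup.index_ker, ← hKdef, Subgroup.card_mul_index, h64]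
  by_contra hne
  have hlt : Nat.card (h.delta T).range < Nat.card K :=
    lt_of_le_of_ne (Subgroup.card_le_of_le hle) fun e =>
      hne (Subgroup.eq_of_le_of_card_ge hle e.ge)
  have hdvd : Nat.card K ∣ 2 ^ 6 := ⟨_, hmul.symm⟩
  obtain ⟨k, hk6, hk⟩ := (Nat.dvd_prime_pow Nat.prime_two).1 hdvd
  have hK16 : 16 ≤ Nat.card K := by
    by_contra hcon
    have : Nat.card K ≤ 8 := by
      rw [hk] at hcon ⊢
      have : k < 4 := (Nat.pow_lt_pow_iff_right (a := 2) (by norm_num)).1 (by omega)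
      calc 2 ^ k ≤ 2 ^ 3 := Nat.pow_le_pow_right (by norm_num) (by omega)
        _ = 8 := by norm_num
    have h8 : Nat.card (h.delta T).range ≤ 7 := by omega
    nlinarith
  obtain ⟨S, hS⟩ := m.full sMap
  obtain ⟨ρ, hρ3, hρ⟩ := exists_lift_order m hK (tMap * sMap) Nat.prime_three (by norm_num)
    rMap_cube
  set L := (h.delta S).ker with hLdef
  have hKL : Nat.card K ≤ Nat.card L := by
    refine Nat.card_le_card_of_injective (fun p => ⟨MulAut.conjNormal (QuotientGroup.mk ρ) p.1,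
      h.mem_delta_ker.2 ?_⟩) fun p q e =>
        Subtype.ext ((MulAut.conjNormal (QuotientGroup.mk ρ : X ⧸ m.vecs)).injective
          (congrArg Subtype.val e))
    rw [MulAut.conjNormal_apply]
    have h1 := h.conj_congr (x := S * ρ) (y := ρ * T) (fun v => by
      rw [m.mul_induces hS hρ, m.mul_induces hρ hT, sMap_conj]) p.1.2
    simp only [QuotientGroup.mk_mul] at h1
    calc _ = (QuotientGroup.mk S * QuotientGroup.mk ρ : X ⧸ m.vecs) * (p.1 : X ⧸ m.vecs) *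
          (QuotientGroup.mk S * QuotientGroup.mk ρ)⁻¹ := by group
      _ = QuotientGroup.mk ρ * (QuotientGroup.mk T * (p.1 : X ⧸ m.vecs) * (QuotientGroup.mk T)⁻¹) *
          (QuotientGroup.mk ρ)⁻¹ := by rw [h1]; group
      _ = _ := by rw [h.mem_delta_ker.1 p.2]
  have hI : 4 ≤ Nat.card (L ⊓ K : Subgroup m.kb) := by
    have h1 : Nat.card (L.subgroupOf K) * L.relIndex K = Nat.card K := Subgroup.card_mul_index _
    rw [← Subgroup.inf_subgroupOf_right,
      Nat.card_congr (Subgroup.subgroupOfEquivOfLe inf_le_right).toEquiv] at h1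
    have h2 : L.relIndex K ≤ L.index := by
      rw [← Subgroup.relIndex_top_right]
      exact Subgroup.relIndex_le_of_le_right le_top Subgroup.FiniteIndex.index_ne_zero
    have h3 : Nat.card L * L.index = 64 := (Subgroup.card_mul_index L).trans h64
    by_contra hcon
    have h4 : Nat.card K * Nat.card L ≤ 3 * 64 := by
      calc Nat.card K * Nat.card L
          = Nat.card (L ⊓ K : Subgroup m.kb) * (L.relIndex K * Nat.card L) := by
            rw [← mul_assoc, h1]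
        _ ≤ 3 * (L.index * Nat.card L) :=
            Nat.mul_le_mul (by omega) (Nat.mul_le_mul_right _ h2)
        _ = 3 * 64 := by rw [mul_comm L.index, h3]
    nlinarith
  haveI : Fintype (L ⊓ K : Subgroup m.kb) := Fintype.ofFinite _
  obtain ⟨a, b, hab, ha1, hb1⟩ : ∃ a b : (L ⊓ K : Subgroup m.kb), a ≠ b ∧ a ≠ 1 ∧ b ≠ 1 := by
    by_contra hno
    push Not at hno
    have h1 : (Finset.univ.erase (1 : (L ⊓ K : Subgroup m.kb))).card ≤ 1 :=
      Finset.card_le_one.2 fun a ha b hb => by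
        by_contra hab
        exact (Finset.mem_erase.1 hb).1 (hno a b hab (Finset.mem_erase.1 ha).1)
    rw [Finset.card_erase_of_mem (Finset.mem_univ _), Finset.card_univ,
      ← Nat.card_eq_fintype_card] at h1
    omega
  have hfix : ∀ p : (L ⊓ K : Subgroup m.kb),
      QuotientGroup.mk ρ * (p.1 : X ⧸ m.vecs) * (QuotientGroup.mk ρ)⁻¹ = (p.1 : X ⧸ m.vecs) := by
    intro p
    have h1 := h.conj_congr (x := ρ) (y := T * S) (fun v => by
      rw [hρ, m.mul_induces hT hS]) p.1.2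
    simp only [QuotientGroup.mk_mul] at h1
    calc _ = QuotientGroup.mk T * (QuotientGroup.mk S * (p.1 : X ⧸ m.vecs) * (QuotientGroup.mk S)⁻¹) *
          (QuotientGroup.mk T)⁻¹ := by rw [h1]; group
      _ = _ := by rw [h.mem_delta_ker.1 p.2.1, h.mem_delta_ker.1 p.2.2]
  exact h.no_quaternion hK hρ3 hρ hT a.1.2 b.1.2 (fun e => ha1 (Subtype.ext (Subtype.ext e)))
    (fun e => hb1 (Subtype.ext (Subtype.ext e))) (fun e => hab (Subtype.ext (Subtype.ext e)))
    (hfix a) (hfix b) (h.mem_delta_ker.1 a.2.2) (h.mem_delta_ker.1 b.2.2)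

end Special

/-- The kernel of a full model in dimension three is abelian. -/
theorem ker_comm [Finite X] (hK : IsPGroup 2 m.ker) : ∀ x y : m.ker, x * y = y * x := by
  by_contra hcon
  push Not at hcon
  have h := special_of_nonabelian m hK hcon
  have h64 := h.card_kb hcon
  have hdel : ∀ (x : X) (c : m.kb), (h.delta x c : X ⧸ m.vecs) =
      (c : X ⧸ m.vecs) * (QuotientGroup.mk x * (c : X ⧸ m.vecs) * (QuotientGroup.mk x)⁻¹) :=
    fun x c => by
    show (c : X ⧸ m.vecs) * (MulAut.conjNormal (QuotientGroup.mk x) c : m.kb) = _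
    rw [MulAut.conjNormal_apply]
  -- a lift of the transvection of square one modulo the vectors
  obtain ⟨T, hT⟩ := m.full tMap
  have hTT : T * T ∈ m.ker := m.mem_ker_iff.2 fun v => by
    rw [m.mul_induces hT hT, LinearEquiv.mul_apply, tMap_involutive]
  obtain ⟨c, hc⟩ : (⟨_, m.mk_mem_kb hTT⟩ : m.kb) ∈ (h.delta T).range := by
    rw [h.delta_range hK h64 hT, h.mem_delta_ker]
    show (QuotientGroup.mk T : X ⧸ m.vecs) * QuotientGroup.mk (T * T) * (QuotientGroup.mk T)⁻¹ =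
      QuotientGroup.mk (T * T)
    rw [← QuotientGroup.mk_inv, ← QuotientGroup.mk_mul, ← QuotientGroup.mk_mul]
    exact congrArg QuotientGroup.mk (by group)
  have hc' := congrArg Subtype.val hc
  rw [hdel] at hc'
  obtain ⟨c₀, hc₀, ec₀⟩ := m.exists_mk_kb c.2
  set x := T * c₀ with hx
  have hxt : ∀ v, x * m.ι v * x⁻¹ = m.ι (tMap v) := m.mul_ker_induces hT hc₀
  set P := (QuotientGroup.mk x : X ⧸ m.vecs) with hP
  have hPP : P * P = 1 := by
    have h1 : (QuotientGroup.mk T : X ⧸ m.vecs) * (c : X ⧸ m.vecs) * (QuotientGroup.mk T)⁻¹ *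
        (QuotientGroup.mk (T * T) * (c : X ⧸ m.vecs)) = 1 := by
      rw [h.kb_comm (m.mk_mem_kb hTT) c.2, ← mul_assoc,
        h.kb_comm (m.kb_normal.conj_mem _ c.2 _) c.2, hc']
      exact h.kb_sq (m.mk_mem_kb hTT)
    rw [hP, hx, QuotientGroup.mk_mul, ec₀]
    refine Eq.trans ?_ h1
    rw [QuotientGroup.mk_mul]
    group
  -- a lift of the unipotent map commuting with it
  obtain ⟨w, hw⟩ := m.full gMap
  set W := (QuotientGroup.mk w : X ⧸ m.vecs) with hW
  have hn : P⁻¹ * (W * P * W⁻¹) ∈ m.kb := by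
    have h1 : x⁻¹ * (w * x * w⁻¹) ∈ m.ker := m.inv_mul_mem_ker fun v => by
      obtain ⟨v, rfl⟩ := gMap.surjective v
      calc x * m.ι (gMap v) * x⁻¹ = m.ι ((tMap * gMap) v) := by rw [hxt]; rfl
        _ = w * (x * m.ι v * x⁻¹) * w⁻¹ := by rw [← gMap_t, hxt, hw]; rfl
        _ = w * x * w⁻¹ * m.ι (gMap v) * (w * x * w⁻¹)⁻¹ := by rw [← hw]; group
    have h2 := m.mk_mem_kb h1
    rwa [QuotientGroup.mk_mul, QuotientGroup.mk_inv, QuotientGroup.mk_mul, QuotientGroup.mk_mul,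
      QuotientGroup.mk_inv] at h2
  set n := P⁻¹ * (W * P * W⁻¹) with hndef
  have hPn : P * n = W * P * W⁻¹ := mul_inv_cancel_left _ _
  have hPi : P⁻¹ = P := inv_eq_of_mul_eq_one_right hPP
  obtain ⟨d, hd⟩ : (⟨n, hn⟩ : m.kb) ∈ (h.delta x).range := by
    rw [h.delta_range hK h64 hxt, h.mem_delta_ker]
    show P * n * P⁻¹ = n
    have h1 : P * n * (P * n) = 1 := by rw [hPn, conj_mul, hPP, mul_one, mul_inv_cancel]
    rw [← h.kb_inv hn]
    calc P * n⁻¹ * P⁻¹ = P * (P * n * (P * n)) * n⁻¹ * P⁻¹ := by rw [h1, mul_one]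
      _ = (P * P) * n * (P * P⁻¹) := by group
      _ = n⁻¹ := by rw [hPP, one_mul, mul_inv_cancel, mul_one, h.kb_inv hn]
  have hd' : (d : X ⧸ m.vecs) * (P * d * P⁻¹) = n := by
    rw [← hdel]; exact congrArg Subtype.val hd
  obtain ⟨d₀, hd₀, ed₀⟩ := m.exists_mk_kb d.2
  have hWP : (d : X ⧸ m.vecs) * W * P * ((d : X ⧸ m.vecs) * W)⁻¹ = P := by
    calc (d : X ⧸ m.vecs) * W * P * ((d : X ⧸ m.vecs) * W)⁻¹
        = d * (W * P * W⁻¹) * (d : X ⧸ m.vecs)⁻¹ := by group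
      _ = d * (P * ((P * d * P⁻¹) * d)) * (d : X ⧸ m.vecs)⁻¹ := by
        rw [← hPn, ← hd', h.kb_comm d.2 (m.kb_normal.conj_mem _ d.2 _)]
      _ = d * (P * P) * d * P⁻¹ := by group
      _ = P := by rw [hPP, mul_one, h.kb_sq d.2, one_mul, hPi]
  set w' := d₀ * w with hw'
  have hwi : ∀ v, w' * m.ι v * w'⁻¹ = m.ι (gMap v) := fun v => by
    calc w' * m.ι v * w'⁻¹ = d₀ * (w * m.ι v * w⁻¹) * d₀⁻¹ := by rw [hw']; group
      _ = m.ι (gMap v) := by rw [hw, m.mem_ker_iff.1 hd₀]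
  set y := w' * w' with hy
  have hyt : ∀ v, y * m.ι v * y⁻¹ = m.ι (tMap v) := fun v => by
    rw [hy, m.mul_induces hwi hwi, gMap_sq]
  set Y := (QuotientGroup.mk y : X ⧸ m.vecs) with hY
  have hYP : Commute Y P := by
    have hc1 : Commute ((d : X ⧸ m.vecs) * W) P := mul_inv_eq_iff_eq_mul.1 hWP
    have : Y = ((d : X ⧸ m.vecs) * W) * ((d : X ⧸ m.vecs) * W) := by
      rw [hY, hy, hw', QuotientGroup.mk_mul, QuotientGroup.mk_mul, ed₀]
    rw [this]
    exact hc1.mul_left hc1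
  have hn' : P⁻¹ * Y ∈ m.kb := by
    have h2 := m.mk_mem_kb (m.inv_mul_mem_ker (x := x) (y := y) fun v => by rw [hxt, hyt])
    rwa [QuotientGroup.mk_mul, QuotientGroup.mk_inv] at h2
  have hYY : Y * Y = 1 := by
    have h1 := h.kb_sq hn'
    have hc2 : Commute P⁻¹ Y := hYP.symm.inv_left
    rw [hc2.eq, mul_assoc, ← mul_assoc P⁻¹, hc2.eq, mul_assoc, hPi, hPP, mul_one] at h1
    exact h1
  rw [hY, ← QuotientGroup.mk_mul] at hYY
  obtain ⟨v, hv⟩ := (QuotientGroup.eq_one_iff _).1 hYY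
  have hgv : gMap v = v := m.ι_inj (by rw [← hwi, hv, hy]; group)
  refine m.not_mem_ker hyt tMap_ne ?_
  rcases g_fixed v hgv with rfl | rfl
  · rw [m.ι_zero] at hv
    exact m.vecs_le_ker (m.mem_vecs.2 hv.symm)
  · have h1 : y * m.ι ![0, 0, 1] * (y * m.ι ![0, 0, 1]) = 1 := by
      calc y * m.ι ![0, 0, 1] * (y * m.ι ![0, 0, 1])
          = (y * m.ι ![0, 0, 1] * y⁻¹) * (y * y) * m.ι ![0, 0, 1] := by group
        _ = 1 := by
          rw [hyt, ← hv, ← m.ι_add, ← m.ι_add, m.ι_eq_one]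
          decide
    exact (Subgroup.mul_mem_cancel_right _ (m.ι_mem_ker _)).1 (m.vecs_le_ker (m.mem_vecs.2 h1))

end Cfsg.Agent.Pyramidal
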