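import Cfsg.Agent.Lib.Pyramidal.Basic

/-!
# Full linear models: minimality and the reduction to dimension three
-/

set_option autoImplicit false
set_option linter.unusedSectionVars false
set_option linter.style.haveILetI false

namespace Cfsg.Agent.Pyramidal

universe u

/-- The elements of square one form a copy of `V` on which every linear map is induced. -/
structure Model (X : Type u) [Group X] (V : Type) [AddCommGroup V] [Module (ZMod 2) V] where
  ι : V → X
  ι_add : ∀ v w, ι (v + w) = ι v * ι w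
  ι_inj : Function.Injective ι
  sq : ∀ x : X, x * x = 1 ↔ ∃ v, ι v = x
  full : ∀ A : V ≃ₗ[ZMod 2] V, ∃ x : X, ∀ v, x * ι v * x⁻¹ = ι (A v)

variable {X : Type u} [Group X] {V : Type} [AddCommGroup V] [Module (ZMod 2) V]

theorem vec_add_self (v : V) : v + v = 0 := by
  rw [← two_smul (ZMod 2) v, show (2 : ZMod 2) = 0 from rfl, zero_smul]

theorem zmod2 : ∀ c : ZMod 2, c = 0 ∨ c = 1 := by decide

namespace Model

variable (m : Model X V)

theorem ι_zero : m.ι 0 = 1 := by
  have h := m.ι_add 0 0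
  rw [add_zero] at h
  exact left_eq_mul.1 h

theorem ι_sq (v : V) : m.ι v * m.ι v = 1 := (m.sq _).2 ⟨v, rfl⟩

theorem ι_inv (v : V) : (m.ι v)⁻¹ = m.ι v := inv_eq_of_mul_eq_one_right (m.ι_sq v)

theorem ι_eq_one {v : V} : m.ι v = 1 ↔ v = 0 :=
  ⟨fun h => m.ι_inj (h.trans m.ι_zero.symm), fun h => h ▸ m.ι_zero⟩

theorem exists_conj (x : X) (v : V) : ∃ w, x * m.ι v * x⁻¹ = m.ι w := by
  obtain ⟨w, hw⟩ := (m.sq (x * m.ι v * x⁻¹)).1 (by rw [conj_mul, m.ι_sq, mul_one, mul_inv_cancel])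
  exact ⟨w, hw.symm⟩

/-- The elements fixing every vector. -/
def ker : Subgroup X where
  carrier := {x | ∀ v, x * m.ι v = m.ι v * x}
  one_mem' v := by rw [one_mul, mul_one]
  mul_mem' {x y} hx hy v := by rw [mul_assoc, hy, ← mul_assoc, hx, mul_assoc]
  inv_mem' {x} hx v := by
    rw [inv_mul_eq_iff_eq_mul, ← mul_assoc, hx, mul_inv_cancel_right]

theorem mem_ker {x : X} : x ∈ m.ker ↔ ∀ v, x * m.ι v = m.ι v * x := Iff.rfl

theorem mem_ker_iff {x : X} : x ∈ m.ker ↔ ∀ v, x * m.ι v * x⁻¹ = m.ι v := by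
  rw [mem_ker]
  exact forall_congr' fun v => mul_inv_eq_iff_eq_mul.symm

theorem ι_mem_ker (v : V) : m.ι v ∈ m.ker := fun w => by
  rw [← m.ι_add, ← m.ι_add, add_comm]

instance ker_normal : m.ker.Normal := ⟨fun x hx g => m.mem_ker_iff.2 fun v => by
  obtain ⟨w, hw⟩ := m.exists_conj g⁻¹ v
  rw [inv_inv] at hw
  have hx' := m.mem_ker_iff.1 hx w
  rw [← hw] at hx'
  calc g * x * g⁻¹ * m.ι v * (g * x * g⁻¹)⁻¹ = g * (x * (g⁻¹ * m.ι v * g) * x⁻¹) * g⁻¹ := by group
    _ = g * (g⁻¹ * m.ι v * g) * g⁻¹ := by rw [hx']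
    _ = m.ι v := by group⟩

/-- Elements inducing the same map differ by an element of the kernel. -/
theorem inv_mul_mem_ker {x y : X} (h : ∀ v, x * m.ι v * x⁻¹ = y * m.ι v * y⁻¹) :
    x⁻¹ * y ∈ m.ker := m.mem_ker_iff.2 fun v => by
  calc x⁻¹ * y * m.ι v * (x⁻¹ * y)⁻¹ = x⁻¹ * (y * m.ι v * y⁻¹) * x := by group
    _ = x⁻¹ * (x * m.ι v * x⁻¹) * x := by rw [h]
    _ = m.ι v := by group

/-- An element inducing a map other than the identity is outside the kernel. -/
theorem not_mem_ker {x : X} {A : V ≃ₗ[ZMod 2] V} (hx : ∀ v, x * m.ι v * x⁻¹ = m.ι (A v))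
    (hA : A ≠ 1) : x ∉ m.ker := fun h => hA (LinearEquiv.ext fun v =>
  m.ι_inj ((hx v).symm.trans (m.mem_ker_iff.1 h v)))

/-- Powers induce the powers. -/
theorem pow_induces {x : X} {A : V ≃ₗ[ZMod 2] V} (hx : ∀ v, x * m.ι v * x⁻¹ = m.ι (A v)) (k : ℕ)
    (v : V) : x ^ k * m.ι v * (x ^ k)⁻¹ = m.ι ((A ^ k) v) := by
  induction k generalizing v with
  | zero => simp
  | succ k ih =>
    rw [pow_succ, pow_succ, LinearEquiv.mul_apply, mul_inv_rev, ← ih (A v), ← hx v]
    group

/-- Every nonzero vector is reached from every other. -/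
theorem transitive [Finite V] {v w : V} (hv : v ≠ 0) (hw : w ≠ 0) :
    ∃ x : X, x * m.ι v * x⁻¹ = m.ι w := by
  by_cases hvw : v = w
  · exact ⟨1, by rw [hvw]; simp⟩
  haveI : FiniteDimensional (ZMod 2) V := Module.Finite.of_finite
  have hz : v ∉ Submodule.span (ZMod 2) {v + w} := by
    intro hm
    obtain ⟨c, hc⟩ := Submodule.mem_span_singleton.1 hm
    rcases zmod2 c with rfl | rfl
    · exact hv (by rw [← hc, zero_smul])
    · rw [one_smul, add_eq_left] at hc; exact hw hc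
  obtain ⟨f, hf, hfS⟩ := Submodule.exists_le_ker_of_notMem hz
  have hfa : f (v + w) = 0 := hfS (Submodule.mem_span_singleton_self _)
  obtain ⟨x, hx⟩ := m.full (LinearEquiv.transvection (f := f) (v := v + w) hfa)
  refine ⟨x, (hx v).trans (congrArg m.ι ?_)⟩
  rw [LinearEquiv.transvection.apply,
    (zmod2 (f v)).resolve_left hf, one_smul, ← add_assoc,
    vec_add_self, zero_add]

/-- Restriction to a subgroup inducing every linear map. -/
noncomputable def restrict [Finite X] [Finite V] [Nontrivial V] (H : Subgroup X)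
    (hfull : ∀ A : V ≃ₗ[ZMod 2] V, ∃ x ∈ H, ∀ v, x * m.ι v * x⁻¹ = m.ι (A v))
    (hmem : ∀ v, m.ι v ∈ H) : Model H V where
  ι v := ⟨m.ι v, hmem v⟩
  ι_add v w := Subtype.ext (m.ι_add v w)
  ι_inj v w h := m.ι_inj (congrArg Subtype.val h)
  sq x := ⟨fun h => by
      obtain ⟨v, hv⟩ := (m.sq x.1).1 (congrArg Subtype.val h)
      exact ⟨v, Subtype.ext hv⟩,
    fun ⟨v, hv⟩ => by subst hv; exact Subtype.ext (m.ι_sq v)⟩
  full A := by
    obtain ⟨x, hx, h⟩ := hfull A
    exact ⟨⟨x, hx⟩, fun v => Subtype.ext (h v)⟩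

/-- A subgroup inducing every linear map contains every vector. -/
theorem mem_of_full [Finite X] [Finite V] (H : Subgroup X)
    (hfull : ∀ A : V ≃ₗ[ZMod 2] V, ∃ x ∈ H, ∀ v, x * m.ι v * x⁻¹ = m.ι (A v))
    (T : V ≃ₗ[ZMod 2] V) (hT : ∀ v, T (T v) = v) (hT1 : T ≠ 1) (v : V) : m.ι v ∈ H := by
  classical
  haveI : FiniteDimensional (ZMod 2) V := Module.Finite.of_finite
  obtain ⟨x, hxH, hx⟩ := hfull T
  haveI : Fact (Nat.Prime 2) := ⟨Nat.prime_two⟩
  have heven : 2 ∣ orderOf x := by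
    by_contra hodd
    obtain ⟨j, hj⟩ : ∃ j, orderOf x = 2 * j + 1 := ⟨orderOf x / 2, by omega⟩
    refine hT1 (LinearEquiv.ext fun w => m.ι_inj ?_)
    have h1 := m.pow_induces hx (orderOf x) w
    rw [pow_orderOf_eq_one, one_mul, inv_one, mul_one, hj, pow_succ, pow_mul,
      show T ^ 2 = 1 from LinearEquiv.ext fun z => by rw [pow_two, LinearEquiv.mul_apply, hT]; rfl,
      one_pow, one_mul] at h1
    exact h1.symm
  obtain ⟨j, hj⟩ := heven
  have hsq : x ^ j * x ^ j = 1 := by rw [← pow_add, ← two_mul, ← hj, pow_orderOf_eq_one]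
  have hne : x ^ j ≠ 1 := fun h => by
    have h1 := Nat.le_of_dvd (by
      rcases Nat.eq_zero_or_pos j with rfl | hjp
      · rw [mul_zero] at hj; exact absurd hj (orderOf_pos x).ne'
      · exact hjp) (orderOf_dvd_of_pow_eq_one h)
    have := orderOf_pos x
    omega
  obtain ⟨w, hw⟩ := (m.sq _).1 hsq
  have hwH : m.ι w ∈ H := hw ▸ pow_mem hxH j
  have hw0 : w ≠ 0 := fun h => hne (by rw [← hw, h, m.ι_zero])
  by_cases hv : v = 0
  · rw [hv, m.ι_zero]; exact one_mem H
  by_cases hwv : w = v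
  · exact hwv ▸ hwH
  have hz : w ∉ Submodule.span (ZMod 2) {w + v} := by
    intro hm
    obtain ⟨c, hc⟩ := Submodule.mem_span_singleton.1 hm
    rcases zmod2 c with rfl | rfl
    · exact hw0 (by rw [← hc, zero_smul])
    · rw [one_smul, add_eq_left] at hc; exact hv hc
  obtain ⟨f, hf, hfS⟩ := Submodule.exists_le_ker_of_notMem hz
  have hfa : f (w + v) = 0 := hfS (Submodule.mem_span_singleton_self _)
  obtain ⟨y, hyH, hy⟩ := hfull (LinearEquiv.transvection (f := f) (v := w + v) hfa)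
  have h := hy w
  rw [LinearEquiv.transvection.apply,
    (zmod2 (f w)).resolve_left hf, one_smul, ← add_assoc,
    vec_add_self, zero_add] at h
  exact h ▸ mul_mem (mul_mem hyH hwH) (inv_mem hyH)

end Model

open scoped Pointwise in
/-- A model without proper models inside has a two-group kernel. -/
theorem exists_two_group_kernel (V : Type) [AddCommGroup V] [Module (ZMod 2) V] [Finite V]
    [Nontrivial V] (T : V ≃ₗ[ZMod 2] V) (hT : ∀ v, T (T v) = v) (hT1 : T ≠ 1) :
    ∀ (N : ℕ) (X : Type u) [Group X] [Finite X], Nat.card X = N → Model X V →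
      ∃ (Y : Type u) (_ : Group Y) (_ : Finite Y) (m : Model Y V), IsPGroup 2 m.ker := by
  intro N
  induction N using Nat.strong_induction_on with
  | _ N ih =>
    intro X _ _ hN m
    classical
    by_cases hprop : ∃ H : Subgroup X, H ≠ ⊤ ∧
        ∀ A : V ≃ₗ[ZMod 2] V, ∃ x ∈ H, ∀ v, x * m.ι v * x⁻¹ = m.ι (A v)
    · obtain ⟨H, hH, hf⟩ := hprop
      refine ih _ ?_ H rfl (m.restrict H hf (m.mem_of_full H hf T hT hT1))
      rw [← hN]
      exact lt_of_le_of_ne H.card_le_card_group fun e => hH (Subgroup.card_eq_iff_eq_top H |>.1 e)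
    push Not at hprop
    have hker : m.ker ≤ frattini X := by
      refine le_iInf₂ fun M hM => ?_
      by_contra hle
      obtain ⟨A, hA⟩ := hprop M hM.1
      have htop : M ⊔ m.ker = ⊤ := hM.2 _ (lt_of_le_of_ne le_sup_left fun e => hle (e ▸ le_sup_right))
      obtain ⟨x, hx⟩ := m.full A
      have hxm : x ∈ ((M ⊔ m.ker : Subgroup X) : Set X) := htop ▸ Subgroup.mem_top x
      rw [Subgroup.coe_mul_of_left_le_normalizer_right M m.ker
        (le_top.trans_eq (Subgroup.normalizer_eq_top m.ker).symm)] at hxm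
      obtain ⟨y, hy, c, hc, e⟩ := Set.mem_mul.1 hxm
      obtain ⟨v, hv⟩ := hA y hy
      refine hv ?_
      rw [← hx v, ← e, mul_inv_rev]
      conv_lhs => rw [← m.mem_ker_iff.1 hc v]
      group
    haveI : Group.IsNilpotent (frattini X) := frattini_nilpotent
    haveI hnil : Group.IsNilpotent m.ker :=
      Group.nilpotent_of_mulEquiv (Subgroup.subgroupOfEquivOfLe hker)
    by_cases h2 : IsPGroup 2 m.ker
    · exact ⟨X, inferInstance, inferInstance, m, h2⟩
    -- an odd normal subgroup in the kernel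
    haveI : Fact (Nat.Prime 2) := ⟨Nat.prime_two⟩
    obtain ⟨q, hq, hq2, hqd⟩ : ∃ q, q.Prime ∧ q ≠ 2 ∧ q ∣ Nat.card m.ker := by
      by_contra hno
      push Not at hno
      refine h2 (IsPGroup.of_card (n := (Nat.card m.ker).primeFactorsList.length) ?_)
      exact Nat.eq_prime_pow_of_unique_prime_dvd Nat.card_pos.ne' fun {d} hd hdd => by
        by_contra hd2
        exact hno d hd hd2 hdd
    haveI : Fact q.Prime := ⟨hq⟩
    let Q : Sylow q m.ker := default
    have hQn : (Q : Subgroup m.ker).Normal := by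
      have h := (Group.isNilpotent_of_finite_tfae (G := m.ker)).out 0 3
      rw [h] at hnil
      exact hnil q inferInstance Q
    set N₁ := (Q : Subgroup m.ker).map m.ker.subtype
    haveI : (Q : Subgroup m.ker).Characteristic := Q.characteristic_of_normal hQn
    haveI hN₁ : N₁.Normal := ConjAct.normal_of_characteristic_of_normal
    have hNodd : Odd (Nat.card N₁) := by
      rw [Subgroup.card_map_of_injective (Subgroup.subtype_injective _), Q.card_eq_multiplicity]
      exact ((Nat.coprime_primes Nat.prime_two hq).2 (Ne.symm hq2)).symm.pow_left _ |>.odd_of_right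
    have hN₁ker : N₁ ≤ m.ker := Subgroup.map_subtype_le _
    have hN₁ne : 1 < Nat.card N₁ := by
      rw [Subgroup.card_map_of_injective (Subgroup.subtype_injective _), Q.card_eq_multiplicity]
      exact Nat.one_lt_pow (Nat.pos_iff_ne_zero.1
        (hq.factorization_pos_of_dvd Nat.card_pos.ne' hqd)) hq.one_lt
    have hdis : ∀ v, m.ι v ∈ N₁ → v = 0 := by
      intro v hv
      by_contra h0
      have hd : orderOf (⟨m.ι v, hv⟩ : N₁) ∣ Nat.card N₁ := orderOf_dvd_natCard _
      rw [Subgroup.orderOf_mk, orderOf_eq_prime (by rw [pow_two, m.ι_sq]) fun e => h0 (m.ι_eq_one.1 e)] at hd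
      exact (Nat.not_even_iff_odd.2 hNodd) (even_iff_two_dvd.2 hd)
    refine ih (Nat.card (X ⧸ N₁)) ?_ (X ⧸ N₁) rfl
      { ι := fun v => QuotientGroup.mk (m.ι v)
        ι_add := fun v w => by rw [m.ι_add]; rfl
        ι_inj := fun v w h => by
          rw [QuotientGroup.eq, m.ι_inv, ← m.ι_add] at h
          have := hdis _ h
          rwa [← vec_add_self v, add_right_inj, eq_comm] at this
        sq := fun x => ?_
        full := fun A => by
          obtain ⟨x, hx⟩ := m.full A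
          exact ⟨QuotientGroup.mk x, fun v => congrArg QuotientGroup.mk (hx v)⟩ }
    · rw [← hN, Subgroup.card_eq_card_quotient_mul_card_subgroup N₁]
      exact lt_mul_of_one_lt_right Nat.card_pos hN₁ne
    · constructor
      · intro hx
        induction x using QuotientGroup.induction_on with
        | _ x =>
          rw [← QuotientGroup.mk_mul, QuotientGroup.eq_one_iff] at hx
          obtain ⟨j, hj⟩ := hNodd
          have h1 : (x * x) ^ (2 * j + 1) = 1 := hj ▸
            congrArg Subtype.val (pow_card_eq_one' (x := (⟨x * x, hx⟩ : N₁)))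
          have h2 : x ^ (2 * j + 1) * x ^ (2 * j + 1) = 1 := by
            rw [← (Commute.refl x).mul_pow]; exact h1
          obtain ⟨v, hv⟩ := (m.sq _).1 h2
          refine ⟨v, ?_⟩
          rw [hv, QuotientGroup.eq, show (x ^ (2 * j + 1))⁻¹ * x = ((x * x) ^ j)⁻¹ by
            rw [← pow_two, ← pow_mul, pow_succ', mul_inv_rev, inv_mul_cancel_right]]
          exact inv_mem (pow_mem hx j)
      · rintro ⟨v, rfl⟩
        exact congrArg QuotientGroup.mk (m.ι_sq v)

/-- A fixed point of an action of a group of prime order on a coset of a two-group. -/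
theorem exists_fixed_coset {X : Type u} [Group X] [Finite X] {K : Subgroup X} (hK : IsPGroup 2 K)
    (σ : X → X) (y : X) (hσ : ∀ c ∈ K, y⁻¹ * σ (y * c) ∈ K) (h3 : ∀ z, σ (σ (σ z)) = z) :
    ∃ z, y⁻¹ * z ∈ K ∧ σ z = z := by
  classical
  haveI : Fintype K := Fintype.ofFinite _
  let f : K → K := fun c => ⟨y⁻¹ * σ (y * c), hσ c c.2⟩
  have hf : ∀ c, f (f (f c)) = c := fun c => Subtype.ext (by
    show y⁻¹ * σ (y * (y⁻¹ * σ (y * (y⁻¹ * σ (y * c.1))))) = c.1
    rw [mul_inv_cancel_left, mul_inv_cancel_left, h3, inv_mul_cancel_left])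
  let e : Equiv.Perm K := ⟨f, f ∘ f, hf, hf⟩
  obtain ⟨k, hk⟩ := IsPGroup.iff_card.1 hK
  haveI : Fact (Nat.Prime 3) := ⟨Nat.prime_three⟩
  obtain ⟨c, hc⟩ : ∃ c, e c = c := by
    by_contra hno
    push Not at hno
    have hsupp : e.support = Finset.univ := Finset.eq_univ_iff_forall.2 fun c =>
      Equiv.Perm.mem_support.2 (hno c)
    have h := Equiv.Perm.card_compl_support_modEq (p := 3) (n := 1) (σ := e) (by
      ext c; simp [pow_succ, e, hf])
    rw [hsupp, Finset.compl_univ, Finset.card_empty] at h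
    have h' : 3 ∣ 2 ^ k := by
      rw [← hk, Nat.card_eq_fintype_card]
      exact (Nat.modEq_zero_iff_dvd).1 h.symm
    exact absurd (Nat.Prime.dvd_of_dvd_pow Nat.prime_three h') (by norm_num)
  exact ⟨y * c, by rw [inv_mul_cancel_left]; exact c.2, by
    have := congrArg Subtype.val hc
    calc σ (y * c) = y * (y⁻¹ * σ (y * c)) := (mul_inv_cancel_left _ _).symm
      _ = y * c := congrArg (y * ·) this⟩

/-- Lifting an element of odd prime order. -/
theorem exists_lift_order {X : Type u} [Group X] [Finite X] {V : Type} [AddCommGroup V]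
    [Module (ZMod 2) V] (m : Model X V) (hK : IsPGroup 2 m.ker) (A : V ≃ₗ[ZMod 2] V) {q : ℕ}
    (hq : q.Prime) (hq2 : q ≠ 2) (hA : A ^ q = 1) :
    ∃ x : X, x ^ q = 1 ∧ ∀ v, x * m.ι v * x⁻¹ = m.ι (A v) := by
  obtain ⟨k, hk⟩ := IsPGroup.iff_card.1 hK
  obtain ⟨j, hj⟩ : ∃ j, 2 ^ k * j % q = 1 := by
    have hcop : Nat.Coprime (2 ^ k) q :=
      ((Nat.coprime_primes Nat.prime_two hq).2 (Ne.symm hq2)).pow_left k
    obtain ⟨j, hj⟩ := Nat.exists_mul_mod_eq_one_of_coprime hcop hq.one_lt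
    exact ⟨j, hj.2⟩
  obtain ⟨x, hx⟩ := m.full A
  have hxq : x ^ q ∈ m.ker := m.mem_ker_iff.2 fun v => by rw [m.pow_induces hx, hA]; rfl
  refine ⟨x ^ (2 ^ k * j), ?_, fun v => ?_⟩
  · have h : (⟨x ^ q, hxq⟩ : m.ker) ^ Nat.card m.ker = 1 := pow_card_eq_one'
    rw [hk] at h
    rw [← pow_mul, mul_comm (2 ^ k * j) q, ← mul_assoc, pow_mul, pow_mul]
    have h' : (x ^ q) ^ 2 ^ k = 1 := congrArg Subtype.val h
    rw [h', one_pow]
  · rw [m.pow_induces hx, ← Nat.div_add_mod (2 ^ k * j) q, hj, pow_add, pow_mul, hA, one_pow,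
      one_mul, pow_one]

/-- Centralisers of an element of order three give a model on a direct factor. -/
theorem exists_model_three (k : ℕ) {X : Type u} [Group X] [Finite X]
    (m : Model X ((Fin 3 → ZMod 2) × (Fin k → ZMod 2 × ZMod 2))) (hK : IsPGroup 2 m.ker) :
    ∃ (Y : Type u) (_ : Group Y) (_ : Finite Y), Nonempty (Model Y (Fin 3 → ZMod 2)) := by
  let R : (Fin k → ZMod 2 × ZMod 2) ≃ₗ[ZMod 2] (Fin k → ZMod 2 × ZMod 2) :=
    { toFun := fun w l => ((w l).2, (w l).1 + (w l).2)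
      map_add' := fun a b => by
        funext l; simp only [Pi.add_apply, Prod.fst_add, Prod.snd_add, Prod.mk_add_mk]
        exact Prod.ext rfl (by abel)
      map_smul' := fun c a => by funext l; simp [mul_add]
      invFun := fun w l => ((w l).2 - (w l).1, (w l).1)
      left_inv := fun w => by funext l; simp
      right_inv := fun w => by funext l; simp }
  let R' := (LinearEquiv.refl (ZMod 2) (Fin 3 → ZMod 2)).prodCongr R
  have hcyc : ∀ p : ZMod 2 × ZMod 2, ((p.1 + p.2, p.2 + (p.1 + p.2)) : ZMod 2 × ZMod 2).2 = p.1 ∧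
      p.1 + p.2 + (p.2 + (p.1 + p.2)) = p.2 := by decide
  have hR3 : R' ^ 3 = 1 := LinearEquiv.ext fun v => by
    refine Prod.ext ?_ ?_
    · simp [pow_succ, R', LinearEquiv.prodCongr_apply]
    · funext l
      simp only [pow_succ, pow_zero, one_mul, LinearEquiv.mul_apply, R',
        LinearEquiv.prodCongr_apply]
      exact Prod.ext (hcyc (v.2 l)).1 (hcyc (v.2 l)).2
  have hRfix : ∀ v, R' v = v → v.2 = 0 := fun v h => by
    funext l
    have h2 := congrFun (congrArg Prod.snd h) l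
    simp only [R', LinearEquiv.prodCongr_apply] at h2
    exact (show ∀ p : ZMod 2 × ZMod 2, (p.2, p.1 + p.2) = p → p = 0 by decide) _ h2
  obtain ⟨r, hr3, hr⟩ := exists_lift_order m hK R' Nat.prime_three (by norm_num) hR3
  have hfix0 : ∀ v, R' (v, 0) = (v, 0) := fun v => by
    refine Prod.ext rfl ?_
    simp [R', LinearEquiv.prodCongr_apply]
  refine ⟨Subgroup.centralizer ({r} : Set X), inferInstance, inferInstance, ⟨{
    ι := fun v => ⟨m.ι (v, 0), Subgroup.mem_centralizer_singleton_iff.2 (by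
      have h := hr (v, 0)
      rw [hfix0, mul_inv_eq_iff_eq_mul] at h
      exact h.symm)⟩
    ι_add := fun v w => Subtype.ext (by
      show m.ι (v + w, 0) = m.ι (v, 0) * m.ι (w, 0)
      rw [← m.ι_add, Prod.mk_add_mk, add_zero])
    ι_inj := fun v w h => congrArg Prod.fst (m.ι_inj (congrArg Subtype.val h))
    sq := fun x => ⟨fun h => ?_, fun ⟨v, hv⟩ => by subst hv; exact Subtype.ext (m.ι_sq _)⟩
    full := fun A => ?_ }⟩⟩
  · obtain ⟨⟨v, w⟩, hv⟩ := (m.sq x.1).1 (congrArg Subtype.val h)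
    refine ⟨v, Subtype.ext ?_⟩
    have hc := Subgroup.mem_centralizer_singleton_iff.1 x.2
    have h2 : R' (v, w) = (v, w) := m.ι_inj (by
      rw [← hr, hv, mul_inv_eq_iff_eq_mul]; exact hc.symm)
    have hw : w = 0 := hRfix _ h2
    rw [hw] at hv
    exact hv
  · obtain ⟨y, hy⟩ := m.full (A.prodCongr (LinearEquiv.refl _ _))
    set B := A.prodCongr (LinearEquiv.refl (ZMod 2) (Fin k → ZMod 2 × ZMod 2))
    have hcomm : ∀ v, R' (B v) = B (R' v) := fun v => by
      simp [R', B, LinearEquiv.prodCongr_apply]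
    have hσ : ∀ c ∈ m.ker, y⁻¹ * (r * (y * c) * r⁻¹) ∈ m.ker := fun c hc => by
      refine m.inv_mul_mem_ker fun v => ?_
      obtain ⟨v, rfl⟩ := R'.surjective v
      calc y * m.ι (R' v) * y⁻¹ = m.ι (R' (B v)) := by rw [hy, hcomm]
        _ = r * (y * m.ι v * y⁻¹) * r⁻¹ := by rw [hy, hr]
        _ = r * (y * (c * m.ι v * c⁻¹) * y⁻¹) * r⁻¹ := by rw [m.mem_ker_iff.1 hc]
        _ = (r * (y * c) * r⁻¹) * (r * m.ι v * r⁻¹) * (r * (y * c) * r⁻¹)⁻¹ := by group
        _ = (r * (y * c) * r⁻¹) * m.ι (R' v) * (r * (y * c) * r⁻¹)⁻¹ := by rw [hr]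
    obtain ⟨z, hz, hzfix⟩ := exists_fixed_coset hK (fun z => r * z * r⁻¹) y hσ (fun z => by
      calc r * (r * (r * z * r⁻¹) * r⁻¹) * r⁻¹ = r ^ 3 * z * (r ^ 3)⁻¹ := by
            simp only [pow_succ, pow_zero, one_mul, mul_inv_rev, mul_assoc]
        _ = z := by rw [hr3, one_mul, inv_one, mul_one])
    refine ⟨⟨z, Subgroup.mem_centralizer_singleton_iff.2 (mul_inv_eq_iff_eq_mul.1 hzfix).symm⟩,
      fun v => Subtype.ext ?_⟩
    show z * m.ι (v, 0) * z⁻¹ = m.ι (A v, 0)
    rw [show ((A v, 0) : (Fin 3 → ZMod 2) × (Fin k → ZMod 2 × ZMod 2)) = B (v, 0) by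
      simp [B, LinearEquiv.prodCongr_apply], ← hy]
    calc z * m.ι (v, 0) * z⁻¹ = y * ((y⁻¹ * z) * m.ι (v, 0) * (y⁻¹ * z)⁻¹) * y⁻¹ := by group
      _ = y * m.ι (v, 0) * y⁻¹ := by rw [m.mem_ker_iff.1 hz]

end Cfsg.Agent.Pyramidal
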