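import Mathlib

/-!
# Three by three matrices modulo a power of two lifting a regular unipotent map
-/

set_option autoImplicit false

namespace Cfsg.Agent.Pyramidal

variable {a : ℕ}

/-- An element of odd value is a unit. -/
theorem isUnit_of_odd {x : ZMod (2 ^ a)} (hx : Odd x.val) : IsUnit x := by
  rw [← ZMod.natCast_zmod_val x, ZMod.isUnit_iff_coprime]
  exact (Nat.coprime_two_right.2 hx).pow_right _

/-- Elements killed by two are fixed by multiplication by odd elements. -/
theorem odd_mul_of_two {x z : ZMod (2 ^ a)} (hx : Odd x.val) (hz : z + z = 0) : x * z = z := by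
  obtain ⟨k, hk⟩ := hx
  rw [← ZMod.natCast_zmod_val x, hk]
  push_cast
  linear_combination (k : ZMod (2 ^ a)) * hz

/-- A vector fixed by `W` and by `Y = W * W` is in the first line. -/
theorem matrix_fixed (W Y : Matrix (Fin 3) (Fin 3) (ZMod (2 ^ a))) (z : Fin 3 → ZMod (2 ^ a))
    (hWW : W * W = Y) (hYY : Y * Y = 1) (hdet : W.det = 1)
    (hY00 : Y 0 0 = 1) (hY10 : Y 1 0 = 0) (hY20 : Y 2 0 = 0)
    (hY02 : Y 0 2 = 1) (hY12 : Y 1 2 = 0) (hY22 : Y 2 2 = -1)
    (h01 : Odd (W 0 1).val) (h11 : Odd (W 1 1).val) (h12 : Odd (W 1 2).val)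
    (hYz : Matrix.mulVec Y z = z) (hWz : Matrix.mulVec W z = z) : z 1 = 0 ∧ z 2 = 0 := by
  have hdetY : Y.det = 1 := by rw [← hWW, Matrix.det_mul, hdet, mul_one]
  rw [Matrix.det_fin_three, hY00, hY10, hY20, hY02, hY12, hY22] at hdetY
  have hY11 : Y 1 1 = -1 := by linear_combination (-1 : ZMod (2 ^ a)) * hdetY
  have hY21 : Y 2 1 = 0 := by
    have h := congrFun (congrFun hYY 0) 1
    simp only [Matrix.mul_apply, Fin.sum_univ_three, hY00, hY02, hY11,
      Matrix.one_apply_ne (show (0 : Fin 3) ≠ 1 by decide)] at h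
    linear_combination h
  have hc : W * Y = Y * W := by rw [← hWW, mul_assoc]
  have hW10 : W 1 0 = 0 := by
    have h := congrFun (congrFun hc 1) 2
    simp only [Matrix.mul_apply, Fin.sum_univ_three, hY02, hY12, hY22, hY10, hY11] at h
    linear_combination h
  have hW20 : W 2 0 = 0 := by
    have h := congrFun (congrFun hc 2) 2
    simp only [Matrix.mul_apply, Fin.sum_univ_three, hY02, hY12, hY22, hY20, hY21] at h
    linear_combination h
  have hps : W 1 1 + W 2 2 = 0 := by
    have h := congrFun (congrFun hWW 1) 2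
    simp only [Matrix.mul_apply, Fin.sum_univ_three, hW10, hY12] at h
    exact (isUnit_of_odd h12).mul_right_eq_zero.1 (by linear_combination h)
  have hpq : W 1 1 * W 1 1 + W 1 2 * W 2 1 = -1 := by
    have h := congrFun (congrFun hWW 1) 1
    simp only [Matrix.mul_apply, Fin.sum_univ_three, hW10, hY11] at h
    linear_combination h
  have hW00 : W 0 0 = 1 := by
    rw [Matrix.det_fin_three, hW10, hW20] at hdet
    linear_combination hdet - W 0 0 * W 1 1 * hps + W 0 0 * hpq
  have h1 : z 1 + z 1 = 0 := by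
    have h := congrFun hYz 1
    simp only [Matrix.mulVec, dotProduct, Fin.sum_univ_three, hY10, hY11, hY12] at h
    linear_combination (-1 : ZMod (2 ^ a)) * h
  have h2 : z 2 + z 2 = 0 := by
    have h := congrFun hYz 2
    simp only [Matrix.mulVec, dotProduct, Fin.sum_univ_three, hY20, hY21, hY22] at h
    linear_combination (-1 : ZMod (2 ^ a)) * h
  have hz2 : z 2 = 0 := by
    have h := congrFun hWz 1
    simp only [Matrix.mulVec, dotProduct, Fin.sum_univ_three, hW10, odd_mul_of_two h11 h1,
      odd_mul_of_two h12 h2] at h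
    linear_combination h
  refine ⟨?_, hz2⟩
  have h := congrFun hWz 0
  simp only [Matrix.mulVec, dotProduct, Fin.sum_univ_three, hW00, hz2, odd_mul_of_two h01 h1] at h
  linear_combination h

end Cfsg.Agent.Pyramidal
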