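import Cfsg.Agent.Lib.Pyramidal.NoGL.ThreeBasic
import Cfsg.Agent.Lib.Pyramidal.NoGL.ThreeMatrix

/-!
# Dimension three: the kernel is not abelian
-/

set_option autoImplicit false
set_option linter.unusedSectionVars false
set_option linter.style.haveILetI false

namespace Cfsg.Agent.Pyramidal

universe u

variable {X : Type u} [Group X] (m : Model X V3)

/-- The unit vectors. -/
abbrev e3 (i : Fin 3) : V3 := Pi.single i 1

theorem Model.ι_pow (v : V3) (k : ℕ) : m.ι v ^ k = m.ι (k • v) := by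
  induction k with
  | zero => rw [pow_zero, zero_smul, m.ι_zero]
  | succ k ih => rw [pow_succ, ih, succ_nsmul, m.ι_add]

theorem Model.ι_coord (k : Fin 3 → ℕ) :
    m.ι (e3 0) ^ k 0 * m.ι (e3 1) ^ k 1 * m.ι (e3 2) ^ k 2 = m.ι (fun i => (k i : ZMod 2)) := by
  rw [m.ι_pow, m.ι_pow, m.ι_pow, ← m.ι_add, ← m.ι_add]
  congr 1
  funext i
  fin_cases i <;> simp [e3]

variable {b : ℕ}

/-- Coordinates on the kernel. -/
def coordMap (τ : Fin 3 → m.ker) (c : Fin 3 → ZMod (2 ^ (b + 1))) : m.ker :=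
  τ 0 ^ (c 0).val * τ 1 ^ (c 1).val * τ 2 ^ (c 2).val

theorem coordMap_add (hcomm : ∀ x y : m.ker, x * y = y * x)
    (hexp : ∀ x : m.ker, x ^ 2 ^ (b + 1) = 1) (τ : Fin 3 → m.ker)
    (c d : Fin 3 → ZMod (2 ^ (b + 1))) :
    coordMap m τ (c + d) = coordMap m τ c * coordMap m τ d := by
  letI : CommGroup m.ker := { (inferInstance : Group m.ker) with mul_comm := hcomm }
  have h : ∀ (x : m.ker) (s t : ZMod (2 ^ (b + 1))), x ^ (s + t).val = x ^ s.val * x ^ t.val :=
    fun x s t => by rw [ZMod.val_add, ← pow_eq_pow_mod _ (hexp x), pow_add]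
  simp only [coordMap, Pi.add_apply, h]
  simp only [mul_assoc, mul_left_comm]

theorem coordMap_single (τ : Fin 3 → m.ker) (i : Fin 3) :
    coordMap m τ (Pi.single i (1 : ZMod (2 ^ (b + 1)))) = τ i := by
  haveI : Fact (1 < 2 ^ (b + 1)) := ⟨Nat.one_lt_two_pow (by omega)⟩
  fin_cases i <;> simp [coordMap, ZMod.val_one]

theorem coordMap_pow_half (hcomm : ∀ x y : m.ker, x * y = y * x) (τ : Fin 3 → m.ker)
    (hτ : ∀ i, ((τ i : X)) ^ 2 ^ b = m.ι (e3 i)) (c : Fin 3 → ZMod (2 ^ (b + 1))) :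
    ((coordMap m τ c : X)) ^ 2 ^ b = m.ι (fun i => ((c i).val : ZMod 2)) := by
  letI : CommGroup m.ker := { (inferInstance : Group m.ker) with mul_comm := hcomm }
  have h : (coordMap m τ c) ^ 2 ^ b =
      (τ 0 ^ 2 ^ b) ^ (c 0).val * (τ 1 ^ 2 ^ b) ^ (c 1).val * (τ 2 ^ 2 ^ b) ^ (c 2).val := by
    rw [coordMap, mul_pow, mul_pow, ← pow_mul, ← pow_mul, ← pow_mul, ← pow_mul, ← pow_mul,
      ← pow_mul, mul_comm (2 ^ b), mul_comm (2 ^ b), mul_comm (2 ^ b)]
  have h' := congrArg Subtype.val h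
  simp only [SubmonoidClass.coe_pow, Subgroup.coe_mul, hτ] at h'
  rw [h', m.ι_coord fun i => (c i).val]

theorem coordMap_bijective [Finite X] (hcomm : ∀ x y : m.ker, x * y = y * x)
    (hexp : ∀ x : m.ker, x ^ 2 ^ (b + 1) = 1) (τ : Fin 3 → m.ker)
    (hτ : ∀ i, ((τ i : X)) ^ 2 ^ b = m.ι (e3 i)) :
    Function.Bijective (coordMap m τ : (Fin 3 → ZMod (2 ^ (b + 1))) → m.ker) := by
  letI : CommGroup m.ker := { (inferInstance : Group m.ker) with mul_comm := hcomm }
  have hker : ∀ c, coordMap m τ c = 1 → c = (0 : Fin 3 → ZMod (2 ^ (b + 1))) := by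
    intro c hc
    have key : ∀ j, j ≤ b + 1 → ∀ i, 2 ^ j ∣ (c i).val := by
      intro j
      induction j with
      | zero => intro _ i; exact one_dvd _
      | succ j ih =>
        intro hj
        choose d hd using ih (by omega)
        have hsplit : 2 ^ b = 2 ^ j * 2 ^ (b - j) := by rw [← pow_add]; congr 1; omega
        have hz : (τ 0 ^ 2 ^ b) ^ d 0 * (τ 1 ^ 2 ^ b) ^ d 1 * (τ 2 ^ 2 ^ b) ^ d 2 = 1 := by
          have h := congrArg (· ^ 2 ^ (b - j)) hc
          simp only [coordMap, mul_pow, one_pow, hd, ← pow_mul] at h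
          have he : ∀ i, 2 ^ j * d i * 2 ^ (b - j) = 2 ^ b * d i := fun i => by rw [hsplit]; ring
          rw [he, he, he, pow_mul, pow_mul, pow_mul] at h
          exact h
        have hz' := congrArg Subtype.val hz
        simp only [SubmonoidClass.coe_pow, Subgroup.coe_mul, Subgroup.coe_one, hτ] at hz'
        rw [m.ι_coord d, m.ι_eq_one] at hz'
        intro i
        rw [hd i, pow_succ]
        exact Nat.mul_dvd_mul_left _ ((ZMod.natCast_eq_zero_iff _ _).1 (congrFun hz' i))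
    funext i
    exact (ZMod.val_eq_zero _).1 (Nat.eq_zero_of_dvd_of_lt (key (b + 1) le_rfl i) (ZMod.val_lt _))
  refine ⟨fun c d hcd => ?_, ?_⟩
  · have h0 := hker (c - d) (by
      have h := coordMap_add m hcomm hexp τ (c - d) d
      rw [sub_add_cancel, hcd] at h
      exact right_eq_mul.1 h)
    exact sub_eq_zero.1 h0
  have surj : ∀ j, j ≤ b + 1 → ∀ x : m.ker, x ^ 2 ^ j = 1 →
      ∃ c : Fin 3 → ZMod (2 ^ (b + 1)), coordMap m τ c = x := by
    intro j
    induction j with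
    | zero =>
      intro _ x hx
      rw [pow_zero, pow_one] at hx
      exact ⟨0, by rw [hx]; simp [coordMap]⟩
    | succ j ih =>
      intro hj x hx
      have hsq : ((x : X) ^ 2 ^ j) * ((x : X) ^ 2 ^ j) = 1 := by
        have h := congrArg Subtype.val hx
        rw [pow_succ, pow_mul, pow_two] at h
        exact h
      obtain ⟨v, hv⟩ := (m.sq _).1 hsq
      let k : Fin 3 → ℕ := fun i => 2 ^ (b - j) * (v i).val
      let c : Fin 3 → ZMod (2 ^ (b + 1)) := fun i => (k i : ZMod (2 ^ (b + 1)))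
      have hp : ∀ (i : Fin 3), τ i ^ (c i).val = τ i ^ k i := fun i => by
        simp only [c, ZMod.val_natCast, ← pow_eq_pow_mod _ (hexp (τ i))]
      have hc : coordMap m τ c ^ 2 ^ j = x ^ 2 ^ j := by
        apply Subtype.ext
        rw [SubmonoidClass.coe_pow, SubmonoidClass.coe_pow, ← hv]
        have h : coordMap m τ c ^ 2 ^ j = (τ 0 ^ 2 ^ b) ^ (v 0).val * (τ 1 ^ 2 ^ b) ^ (v 1).val *
            (τ 2 ^ 2 ^ b) ^ (v 2).val := by
          have hb : 2 ^ b = 2 ^ (b - j) * 2 ^ j := by rw [← pow_add]; congr 1; omega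
          simp only [coordMap, hp, mul_pow, ← pow_mul, hb, k]
          congr 1
          · congr 1 <;> (congr 1; ring)
          · congr 1; ring
        have h' := congrArg Subtype.val h
        simp only [SubmonoidClass.coe_pow, Subgroup.coe_mul, hτ] at h'
        rw [h', m.ι_coord fun i => (v i).val]
        congr 1
        funext i
        exact ZMod.natCast_zmod_val _
      obtain ⟨d, hd⟩ := ih (by omega) (x * (coordMap m τ c)⁻¹) (by
        rw [mul_pow, inv_pow, hc, mul_inv_cancel])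
      exact ⟨d + c, by rw [coordMap_add m hcomm hexp, hd, inv_mul_cancel_right]⟩
  exact fun x => surj (b + 1) le_rfl x (hexp x)

/-- The exponent of the kernel and a system of roots. -/
theorem exists_roots [Finite X] (hK : IsPGroup 2 m.ker) :
    ∃ b, (∀ x : m.ker, x ^ 2 ^ (b + 1) = 1) ∧
      ∀ v : V3, v ≠ 0 → ∃ x : m.ker, (x : X) ^ 2 ^ b = m.ι v := by
  classical
  have hex : ∃ a, ∀ x : m.ker, x ^ 2 ^ a = 1 := by
    obtain ⟨k, hk⟩ := IsPGroup.iff_card.1 hK
    exact ⟨k, fun x => hk ▸ pow_card_eq_one'⟩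
  obtain ⟨b, hb⟩ : ∃ b, Nat.find hex = b + 1 := Nat.exists_eq_add_one_of_ne_zero fun h0 => by
    have h := congrArg Subtype.val (Nat.find_spec hex ⟨m.ι ![1, 0, 0], m.ι_mem_ker _⟩)
    rw [h0, pow_zero, pow_one] at h
    exact absurd (m.ι_eq_one.1 h) (by decide)
  refine ⟨b, hb ▸ Nat.find_spec hex, fun w hw => ?_⟩
  obtain ⟨x₀, hx₀⟩ := not_forall.1 (Nat.find_min hex (show b < Nat.find hex by omega))
  have hsq : ((x₀ : X) ^ 2 ^ b) * ((x₀ : X) ^ 2 ^ b) = 1 := by
    have h := congrArg Subtype.val (Nat.find_spec hex x₀)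
    rw [hb, pow_succ, pow_mul, pow_two] at h
    exact h
  obtain ⟨v, hv⟩ := (m.sq _).1 hsq
  obtain ⟨y, hy⟩ := m.transitive (v := v) (w := w) (fun h => hx₀ (Subtype.ext (by
    rw [SubmonoidClass.coe_pow, ← hv, h, m.ι_zero]; rfl))) hw
  refine ⟨MulAut.conjNormal y x₀, ?_⟩
  rw [MulAut.conjNormal_apply, conj_pow, ← hv, hy]

/-- The kernel of a full model in dimension three is not abelian. -/
theorem ker_not_comm [Finite X] (hK : IsPGroup 2 m.ker) (hcomm : ∀ x y : m.ker, x * y = y * x) :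
    False := by
  classical
  obtain ⟨b, hexp, hroot⟩ := exists_roots m hK
  obtain ⟨A, hA⟩ := m.full aMap
  obtain ⟨B, hB⟩ := m.full bMap
  set w : X := A * B * (B * A)⁻¹ with hw
  have hgi : ∀ v, w * m.ι v * w⁻¹ = m.ι (gMap v) := by
    intro v
    obtain ⟨v, rfl⟩ := (bMap * aMap).surjective v
    calc w * m.ι ((bMap * aMap) v) * w⁻¹
        = w * (B * (A * m.ι v * A⁻¹) * B⁻¹) * w⁻¹ := by rw [hA, hB]; rfl
      _ = A * (B * m.ι v * B⁻¹) * A⁻¹ := by rw [hw]; group
      _ = m.ι ((gMap * (bMap * aMap)) v) := by rw [hB, hA, ← gMap_comm]; rfl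
  set y : X := w * w with hy
  have hyi : ∀ v, y * m.ι v * y⁻¹ = m.ι (tMap v) := by
    intro v
    calc y * m.ι v * y⁻¹ = w * (w * m.ι v * w⁻¹) * w⁻¹ := by rw [hy]; group
      _ = m.ι (tMap v) := by rw [hgi, hgi, ← gMap_sq]; rfl
  have hz : y * y ∈ m.ker := m.mem_ker_iff.2 fun v => by
    calc y * y * m.ι v * (y * y)⁻¹ = y * (y * m.ι v * y⁻¹) * y⁻¹ := by group
      _ = m.ι v := by rw [hyi, hyi, tMap_involutive]
  have hzc : ∀ τ : m.ker, y * y * (τ : X) * (y * y)⁻¹ = τ := fun τ =>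
    mul_inv_eq_iff_eq_mul.2 (congrArg Subtype.val (hcomm ⟨_, hz⟩ τ))
  -- adapted roots
  obtain ⟨u, hu⟩ := hroot (e3 1) (by decide)
  obtain ⟨v, hv⟩ := hroot (e3 2) (by decide)
  have hcX : ∀ s t : m.ker, (s : X) * t = t * s := fun s t => congrArg Subtype.val (hcomm s t)
  set l : m.ker := v * MulAut.conjNormal y v with hl
  have hlv : (l : X) = (v : X) * (y * v * y⁻¹) := by
    rw [hl, Subgroup.coe_mul, MulAut.conjNormal_apply]
  have hl2 : (l : X) ^ 2 ^ b = m.ι (e3 0) := by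
    have hc : Commute (v : X) (y * v * y⁻¹) := by
      have h := hcX v (MulAut.conjNormal y v)
      rwa [MulAut.conjNormal_apply] at h
    rw [hlv, hc.mul_pow, conj_pow, hv, hyi, ← m.ι_add]
    exact congrArg m.ι (by decide)
  set τ : Fin 3 → m.ker := ![l, u, v] with hτdef
  have hτ : ∀ i, ((τ i : X)) ^ 2 ^ b = m.ι (e3 i) := by
    intro i
    fin_cases i
    · exact hl2
    · exact hu
    · exact hv
  set φ := (coordMap m τ : (Fin 3 → ZMod (2 ^ (b + 1))) → m.ker) with hφ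
  have hbij : Function.Bijective φ := coordMap_bijective m hcomm hexp τ hτ
  have hadd : ∀ c d, φ (c + d) = φ c * φ d := coordMap_add m hcomm hexp τ
  let ψ := Equiv.ofBijective φ hbij
  have hψ : ∀ t, φ (ψ.symm t) = t := ψ.apply_symm_apply
  let ρ : X → Module.End (ZMod (2 ^ (b + 1))) (Fin 3 → ZMod (2 ^ (b + 1))) := fun x =>
    (AddMonoidHom.mk' (fun c => ψ.symm (MulAut.conjNormal x (φ c))) fun c d => hbij.1 (by
      rw [hψ, hadd, hadd, hψ, hψ, map_mul])).toZModLinearMap _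
  have hρ : ∀ x c, φ (ρ x c) = MulAut.conjNormal x (φ c) := fun x c => hψ _
  have hρmul : ∀ x x', ρ (x * x') = ρ x * ρ x' := fun x x' => LinearMap.ext fun c => hbij.1 (by
    rw [Module.End.mul_apply, hρ, hρ, hρ, map_mul, MulAut.mul_apply])
  let M : X → Matrix (Fin 3) (Fin 3) (ZMod (2 ^ (b + 1))) := fun x => LinearMap.toMatrix' (ρ x)
  have hMmul : ∀ x x', M (x * x') = M x * M x' := fun x x' => by
    simp only [M, hρmul, LinearMap.toMatrix'_mul]
  have hM1 : M 1 = 1 := by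
    have : ρ 1 = 1 := LinearMap.ext fun c => hbij.1 (by
      rw [hρ, map_one, MulAut.one_apply]; rfl)
    simp only [M, this, LinearMap.toMatrix'_one]
  have hMcol : ∀ x i, (fun k => M x k i) = ψ.symm (MulAut.conjNormal x (τ i)) := by
    intro x i
    funext k
    simp only [M, LinearMap.toMatrix'_apply]
    rw [show ρ x (Pi.single i 1) = ψ.symm (MulAut.conjNormal x (φ (Pi.single i 1))) from rfl,
      hφ, coordMap_single]
  have hpar : ∀ x (L : V3 ≃ₗ[ZMod 2] V3), (∀ v, x * m.ι v * x⁻¹ = m.ι (L v)) →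
      ∀ k i, ((M x k i).val : ZMod 2) = L (e3 i) k := by
    intro x L hx k i
    have h := coordMap_pow_half m hcomm τ hτ (fun k => M x k i)
    rw [hMcol, ← hφ, hψ, MulAut.conjNormal_apply, conj_pow, hτ, hx] at h
    exact (congrFun (m.ι_inj h) k).symm
  have hdet : (M w).det = 1 := by
    have h : ∀ x, (M x).det * (M x⁻¹).det = 1 := fun x => by
      rw [← Matrix.det_mul, ← hMmul, mul_inv_cancel, hM1, Matrix.det_one]
    rw [hw, mul_inv_rev, hMmul, hMmul, hMmul, Matrix.det_mul, Matrix.det_mul, Matrix.det_mul]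
    linear_combination (M A⁻¹).det * (M A).det * h B + h A
  -- the matrix of the transvection
  have hYY : M y * M y = 1 := by
    rw [← hMmul, ← hM1]
    have : ρ (y * y) = ρ 1 := LinearMap.ext fun c => hbij.1 (by
      rw [hρ, hρ, map_one, MulAut.one_apply]
      exact Subtype.ext (by rw [MulAut.conjNormal_apply, hzc]))
    simp only [M, this]
  have hsingle : ∀ i, ψ.symm (τ i) = Pi.single i 1 := fun i => hbij.1 (by
    rw [hψ, hφ, coordMap_single])
  have hcol0 : (fun k => M y k 0) = Pi.single 0 1 := by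
    rw [hMcol, ← hsingle 0]
    refine congrArg ψ.symm (Subtype.ext ?_)
    show (MulAut.conjNormal y l : X) = l
    rw [MulAut.conjNormal_apply, hlv]
    calc y * ((v : X) * (y * v * y⁻¹)) * y⁻¹ = (y * v * y⁻¹) * (y * y * v * (y * y)⁻¹) := by group
      _ = (y * v * y⁻¹) * v := by rw [hzc]
      _ = (v : X) * (y * v * y⁻¹) := by
        have h := hcX (MulAut.conjNormal y v) v
        rwa [MulAut.conjNormal_apply] at h
  have hcol2 : (fun k => M y k 2) + Pi.single 2 1 = Pi.single 0 1 := by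
    apply hbij.1
    rw [hMcol, hadd, hψ, ← hsingle 2, ← hsingle 0, hψ, hψ]
    exact (hcomm _ _).trans hl.symm
  have hYe : ∀ k, M y k 0 = (Pi.single 0 1 : Fin 3 → ZMod (2 ^ (b + 1))) k ∧
      M y k 2 = (Pi.single 0 1 : Fin 3 → ZMod (2 ^ (b + 1))) k -
        (Pi.single 2 1 : Fin 3 → ZMod (2 ^ (b + 1))) k := fun k =>
    ⟨congrFun hcol0 k, eq_sub_of_add_eq (congrFun hcol2 k)⟩
  have hodd : ∀ k i, gMap (e3 i) k = 1 → Odd (M w k i).val := fun k i h =>
    ZMod.natCast_eq_one_iff_odd.1 ((hpar w gMap hgi k i).trans h)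
  -- the square of the lift
  set z : Fin 3 → ZMod (2 ^ (b + 1)) := ψ.symm ⟨y * y, hz⟩ with hzdef
  have hfix : ∀ x, Commute x (y * y) → Matrix.mulVec (M x) z = z := by
    intro x hx
    simp only [M, LinearMap.toMatrix'_mulVec]
    refine hbij.1 ?_
    rw [hρ, hzdef, hψ]
    exact Subtype.ext (by
      rw [MulAut.conjNormal_apply]
      exact mul_inv_eq_iff_eq_mul.2 hx.eq)
  obtain ⟨h1, h2⟩ := matrix_fixed (M w) (M y) z (by rw [← hMmul]) hYY hdet
    (by rw [(hYe 0).1]; rfl) (by rw [(hYe 1).1]; rfl) (by rw [(hYe 2).1]; rfl)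
    (by rw [(hYe 0).2]; simp) (by rw [(hYe 1).2]; simp) (by rw [(hYe 2).2]; simp)
    (hodd 0 1 (by decide)) (hodd 1 1 (by decide)) (hodd 1 2 (by decide))
    (hfix y ((Commute.refl y).mul_right (Commute.refl y)))
    (hfix w (by
      have hwy : Commute w y := (Commute.refl w).mul_right (Commute.refl w)
      exact hwy.mul_right hwy))
  -- another lift of square one
  set k : ℕ := (-z 0).val with hk
  have hzl : (⟨y * y, hz⟩ : m.ker) = l ^ (z 0).val := by
    rw [← hψ ⟨y * y, hz⟩, ← hzdef, hφ]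
    simp [coordMap, h1, h2, hτdef]
  have hlk : l ^ k * l ^ (z 0).val = 1 := by
    rw [← pow_add, pow_eq_pow_mod _ (hexp l), hk, ← ZMod.val_add, neg_add_cancel, ZMod.val_zero,
      pow_zero]
  have hconjv : ((v : X) * (y * v * y⁻¹)) = (y * v * y⁻¹) * v := by
    have h := hcX v (MulAut.conjNormal y v)
    rwa [MulAut.conjNormal_apply] at h
  have hsq : (y * (v : X) ^ k) * (y * (v : X) ^ k) = 1 := by
    have h := congrArg Subtype.val ((congrArg (l ^ k * ·) hzl).trans hlk)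
    simp only [Subgroup.coe_mul, SubmonoidClass.coe_pow, Subgroup.coe_one] at h
    have hzv : y * y * (v : X) ^ k = (v : X) ^ k * (y * y) := by
      have := hzc (v ^ k)
      rw [SubmonoidClass.coe_pow, mul_inv_eq_iff_eq_mul] at this
      exact this
    calc (y * (v : X) ^ k) * (y * (v : X) ^ k)
        = (y * (v : X) ^ k * y⁻¹) * (y * y * (v : X) ^ k) := by group
      _ = (y * v * y⁻¹) ^ k * (v : X) ^ k * (y * y) := by
        rw [hzv, conj_pow]; exact (mul_assoc _ _ _).symm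
      _ = (l : X) ^ k * (y * y) := by
        rw [← (Commute.symm (show Commute (v : X) (y * v * y⁻¹) from hconjv)).mul_pow, ← hconjv,
          ← hlv]
      _ = 1 := h
  obtain ⟨e, he⟩ := (m.sq _).1 hsq
  refine m.not_mem_ker hyi tMap_ne ?_
  have hyk : y * (v : X) ^ k ∈ m.ker := he ▸ m.ι_mem_ker e
  exact (Subgroup.mul_mem_cancel_right _ (pow_mem v.2 k)).1 hyk

end Cfsg.Agent.Pyramidal
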