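import Cfsg.Agent.Lib.Pyramidal.NoGL.Frame

/-!
# Dimension three: the linear maps used
-/

set_option autoImplicit false
set_option linter.unusedSectionVars false

namespace Cfsg.Agent.Pyramidal

/-- The space of dimension three over two elements. -/
abbrev V3 : Type := Fin 3 → ZMod 2

/-- A regular unipotent map. -/
def gMap : V3 ≃ₗ[ZMod 2] V3 where
  toFun x := ![x 0 + x 1, x 1 + x 2, x 2]
  map_add' x y := by funext i; fin_cases i <;> simp <;> ring
  map_smul' c x := by funext i; fin_cases i <;> simp [mul_add]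
  invFun x := ![x 0 + x 1 + x 2, x 1 + x 2, x 2]
  left_inv := by decide
  right_inv := by decide

/-- A transvection, the square of `gMap`. -/
def tMap : V3 ≃ₗ[ZMod 2] V3 where
  toFun x := ![x 0 + x 2, x 1, x 2]
  map_add' x y := by funext i; fin_cases i <;> simp <;> ring
  map_smul' c x := by funext i; fin_cases i <;> simp [mul_add]
  invFun x := ![x 0 + x 2, x 1, x 2]
  left_inv := by decide
  right_inv := by decide

/-- A second transvection. -/
def sMap : V3 ≃ₗ[ZMod 2] V3 where
  toFun x := ![x 0, x 1, x 2 + x 0]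
  map_add' x y := by funext i; fin_cases i <;> simp <;> ring
  map_smul' c x := by funext i; fin_cases i <;> simp [mul_add]
  invFun x := ![x 0, x 1, x 2 + x 0]
  left_inv := by decide
  right_inv := by decide

/-- A cyclic permutation of the coordinates. -/
def aMap : V3 ≃ₗ[ZMod 2] V3 where
  toFun x := ![x 2, x 0, x 1]
  map_add' x y := by funext i; fin_cases i <;> simp
  map_smul' c x := by funext i; fin_cases i <;> simp
  invFun x := ![x 1, x 2, x 0]
  left_inv := by decide
  right_inv := by decide

/-- A transvection whose commutator with `aMap` is `gMap`. -/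
def bMap : V3 ≃ₗ[ZMod 2] V3 where
  toFun x := ![x 0 + x 1, x 1, x 2]
  map_add' x y := by funext i; fin_cases i <;> simp <;> ring
  map_smul' c x := by funext i; fin_cases i <;> simp [mul_add]
  invFun x := ![x 0 + x 1, x 1, x 2]
  left_inv := by decide
  right_inv := by decide

theorem gMap_sq : gMap * gMap = tMap := LinearEquiv.ext (by decide)

theorem tMap_sq : tMap * tMap = 1 := LinearEquiv.ext (by decide)

theorem sMap_sq : sMap * sMap = 1 := LinearEquiv.ext (by decide)

theorem rMap_cube : (tMap * sMap) ^ 3 = 1 := by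
  rw [pow_succ, pow_two]
  exact LinearEquiv.ext (by decide)

theorem tMap_invert : tMap * (tMap * sMap) * tMap = (tMap * sMap) * (tMap * sMap) :=
  LinearEquiv.ext (by decide)

theorem sMap_conj : (tMap * sMap) * tMap = sMap * (tMap * sMap) := LinearEquiv.ext (by decide)

theorem gMap_comm : aMap * bMap = gMap * (bMap * aMap) := LinearEquiv.ext (by decide)

theorem tMap_ne : tMap ≠ 1 := fun h => absurd (LinearEquiv.congr_fun h ![0, 0, 1]) (by decide)

theorem tMap_involutive (v : V3) : tMap (tMap v) = v := LinearEquiv.congr_fun tMap_sq v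

theorem r_fixed : ∀ v : V3, tMap (sMap v) = v → v = 0 ∨ v = ![0, 1, 0] := by decide

theorem g_fixed : ∀ v : V3, gMap v = v → v = 0 ∨ v = ![1, 0, 0] := by decide

theorem t_fixed : ∀ v : V3, tMap v = v ↔ v 2 = 0 := by decide

theorem span_two : ∀ p q r : V3, p ≠ 0 → q ≠ 0 → p ≠ q → r ≠ 0 → r ≠ p → r ≠ q →
    (∀ f : V3, f 0 * p 0 + f 1 * p 1 + f 2 * p 2 = 0 → f 0 * q 0 + f 1 * q 1 + f 2 * q 2 = 0 →
      f 0 * r 0 + f 1 * r 1 + f 2 * r 2 = 0) → r = p + q := by decide

end Cfsg.Agent.Pyramidal
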