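import Mathlib

/-!
# A character sum for quadratic maps into three dimensions over two elements
-/

set_option autoImplicit false
set_option linter.style.haveILetI false

namespace Cfsg.Agent.Pyramidal

/-- The sign of a scalar. -/
def sgn (a : ZMod 2) : ℤ := if a = 0 then 1 else -1

theorem sgn_add : ∀ a b, sgn (a + b) = sgn a * sgn b := by decide

theorem sgn_ne : ∀ a, a ≠ 0 → sgn a = -1 := fun _ ha => if_neg ha

theorem sgn_zero : sgn 0 = 1 := rfl

theorem zmod2_self : ∀ x : ZMod 2, x + x = 0 := by decide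

theorem first_ne : (![1, 0, 0] : Fin 3 → ZMod 2) ≠ 0 := by decide

theorem sum_sgn_last : ∑ v : Fin 3 → ZMod 2, sgn (v 2) = 0 := by decide

/-- The sum of a character is zero or the order. -/
theorem sum_sgn_hom {M : Type*} [Group M] [Fintype M] (f : M → ZMod 2)
    (hf : ∀ a b, f (a * b) = f a + f b) :
    (∑ a, sgn (f a) = 0 ∧ ∃ a, f a ≠ 0) ∨
      (∑ a, sgn (f a) = Fintype.card M ∧ ∀ a, f a = 0) := by
  by_cases h : ∃ a, f a ≠ 0
  · obtain ⟨c, hc⟩ := h
    refine Or.inl ⟨?_, c, hc⟩
    have h1 : ∑ a, sgn (f a) = -∑ a, sgn (f a) := by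
      rw [← Finset.sum_neg_distrib]
      exact Fintype.sum_equiv (Equiv.mulRight c) _ _ fun a => by
        rw [Equiv.coe_mulRight, hf, sgn_add, sgn_ne _ hc, mul_neg_one, neg_neg]
    omega
  · push Not at h
    exact Or.inr ⟨by simp [h, sgn_zero], h⟩

theorem two_pow_three_seven {s j : ℕ} (h : 1 + 7 * (2 ^ s + 1) = 2 ^ j) : s = 3 := by
  rcases lt_or_ge s 4 with hs | hs
  · interval_cases s <;> try rfl
    all_goals
      exfalso
      have hj : j < 8 := (Nat.pow_lt_pow_iff_right (by norm_num)).1
        (show 2 ^ j < 2 ^ 8 by rw [← h]; norm_num)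
      interval_cases j <;> simp at h
  · obtain ⟨t, rfl⟩ : ∃ t, s = t + 4 := ⟨s - 4, by omega⟩
    have hj : 4 ≤ j := (Nat.pow_le_pow_iff_right (by norm_num : 1 < 2)).1 (by
      have := Nat.one_le_two_pow (n := t)
      rw [← h, pow_add]
      omega)
    obtain ⟨i, rfl⟩ : ∃ i, j = i + 4 := ⟨j - 4, by omega⟩
    rw [pow_add, pow_add] at h
    omega

/-- A quadratic map with equidistributed nonzero values lives on one, eight or sixty-four points. -/
theorem fibre_count {M : Type*} [Group M] [Finite M] (h2 : ∀ p : M, p * p = 1)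
    (q : M → Fin 3 → ZMod 2) (hq : ∀ p, q p = 0 ↔ p = 1)
    (hbil : ∀ a b c, q (a * (b * c)) + q a + q (b * c) =
      q (a * b) + q a + q b + (q (a * c) + q a + q c))
    (hfib : ∀ v w : Fin 3 → ZMod 2, v ≠ 0 → w ≠ 0 →
      Nat.card {p // q p = v} ≤ Nat.card {p // q p = w}) :
    (∀ p : M, p = 1) ∨ Function.Bijective q ∨ Nat.card M = 64 := by
  classical
  haveI : Fintype M := Fintype.ofFinite M
  haveI : Fact (Nat.Prime 2) := ⟨Nat.prime_two⟩
  have hmc : ∀ a b : M, a * b = b * a := fun a b => by
    have h := inv_eq_of_mul_eq_one_right (h2 (a * b))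
    rw [mul_inv_rev, inv_eq_of_mul_eq_one_right (h2 a), inv_eq_of_mul_eq_one_right (h2 b)] at h
    exact h.symm
  set N := Nat.card {p // q p = ![1, 0, 0]} with hN
  have hfibN : ∀ v, v ≠ 0 → (Finset.univ.filter fun p => q p = v).card = N := fun v hv => by
    rw [← Fintype.card_subtype, ← Nat.card_eq_fintype_card]
    exact le_antisymm (hfib v _ hv first_ne) (hfib _ v first_ne hv)
  have hfib0 : (Finset.univ.filter fun p => q p = 0).card = 1 := by
    rw [Finset.card_eq_one]
    exact ⟨1, by ext p; simp [hq]⟩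
  have hsum : ∀ g : (Fin 3 → ZMod 2) → ℤ, ∑ p, g (q p) = (N : ℤ) * ∑ v, g v + (1 - N) * g 0 := by
    intro g
    rw [← Finset.sum_fiberwise Finset.univ q]
    have : ∀ v, ∑ p ∈ Finset.univ.filter (fun p => q p = v), g (q p) =
        (N : ℤ) * g v + if v = 0 then (1 - N) * g 0 else 0 := by
      intro v
      rw [Finset.sum_congr rfl (fun p hp => by rw [(Finset.mem_filter.1 hp).2]),
        Finset.sum_const, nsmul_eq_mul]
      by_cases hv : v = 0
      · subst hv
        rw [hfib0, if_pos rfl]
        ring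
      · rw [hfibN v hv, if_neg hv, add_zero]
    rw [Finset.sum_congr rfl fun v _ => this v, Finset.sum_add_distrib, ← Finset.mul_sum,
      Finset.sum_ite_eq', if_pos (Finset.mem_univ _)]
  set S := ∑ p, sgn (q p 2) with hS
  have hS' : S = 1 - N := by
    rw [hS, hsum (fun v => sgn (v 2)), sum_sgn_last]
    simp [sgn_zero]
  have hM : (Fintype.card M : ℤ) = 1 + 7 * N := by
    have h := hsum (fun _ => 1)
    simp only [Finset.sum_const, Finset.card_univ, nsmul_eq_mul, mul_one] at h
    rw [h, show Fintype.card (Fin 3 → ZMod 2) = 8 by simp]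
    push_cast
    ring
  let β : M → M → ZMod 2 := fun a b => q (a * b) 2 + q a 2 + q b 2
  have hβ : ∀ a b c, β a (b * c) = β a b + β a c := fun a b c => by
    have h := congrFun (hbil a b c) 2
    simpa [β] using h
  have hβ' : ∀ a b c, β (a * b) c = β a c + β b c := fun a b c => by
    have e : ∀ x y, β x y = β y x := fun x y => by simp only [β]; rw [hmc x y]; ring
    rw [e, hβ, e a, e b]
  let R : Subgroup M :=
    { carrier := {d | ∀ a, β a d = 0}
      one_mem' := fun a => by
        have h := hβ a 1 1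
        rw [mul_one] at h
        exact left_eq_add.1 h
      mul_mem' := fun {x y} hx hy a => by rw [hβ, hx a, hy a, add_zero]
      inv_mem' := fun {x} hx a => by rw [inv_eq_of_mul_eq_one_right (h2 x)]; exact hx a }
  haveI : Fintype R := Fintype.ofFinite R
  have hSS : S * S = Fintype.card M * ∑ d : R, sgn (q d 2) := by
    have h1 : ∀ d : M, ∑ a, sgn (β a d) = if d ∈ R then (Fintype.card M : ℤ) else 0 := by
      intro d
      rcases sum_sgn_hom (fun a => β a d) (fun a b => hβ' a b d) with ⟨h, a, ha⟩ | ⟨h, hz⟩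
      · rw [if_neg fun hd : d ∈ R => ha (hd a), h]
      · rw [if_pos (show d ∈ R from hz), h]
    calc S * S = ∑ a, ∑ d, sgn (q a 2) * sgn (q (a * d) 2) := by
          rw [hS, Finset.sum_mul_sum]
          exact Finset.sum_congr rfl fun a _ =>
            (Equiv.sum_comp (Equiv.mulLeft a) (fun d => sgn (q a 2) * sgn (q d 2))).symm
      _ = ∑ a, ∑ d, sgn (q d 2) * sgn (β a d) := Finset.sum_congr rfl fun a _ =>
          Finset.sum_congr rfl fun d _ => by
            rw [← sgn_add, ← sgn_add]
            exact congrArg sgn (by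
              show q a 2 + q (a * d) 2 = q d 2 + (q (a * d) 2 + q a 2 + q d 2)
              have : q d 2 + q d 2 = 0 := zmod2_self _
              linear_combination -this)
      _ = ∑ d, sgn (q d 2) * (if d ∈ R then (Fintype.card M : ℤ) else 0) := by
          rw [Finset.sum_comm]
          exact Finset.sum_congr rfl fun d _ => by rw [← Finset.mul_sum, h1]
      _ = _ := by
          simp only [mul_ite, mul_zero]
          rw [← Finset.sum_filter, Finset.sum_subtype (p := fun d => d ∈ R) _ (by simp),
            ← Finset.sum_mul, mul_comm]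
  have hT : ∑ d : R, sgn (q d 2) = 0 ∨ ∑ d : R, sgn (q d 2) = Fintype.card R := by
    rcases sum_sgn_hom (fun d : R => q d 2) (fun a b => by
      have h : q ((a : M) * b) 2 + q a 2 + q b 2 = 0 := b.2 a
      have h2' : q (a : M) 2 + q a 2 + (q b 2 + q b 2) = 0 := by
        rw [zmod2_self, zmod2_self,
          add_zero]
      rw [Subgroup.coe_mul]
      linear_combination h - h2') with ⟨h, -⟩ | ⟨h, -⟩
    · exact Or.inl h
    · exact Or.inr h
  obtain ⟨j, hj⟩ : ∃ j, Fintype.card M = 2 ^ j := by
    have hP : IsPGroup 2 M := fun p => ⟨1, by rw [pow_one, pow_two, h2]⟩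
    obtain ⟨j, hj⟩ := IsPGroup.iff_card.1 hP
    exact ⟨j, by rw [← Nat.card_eq_fintype_card, hj]⟩
  rw [hS'] at hSS
  rcases Nat.lt_or_ge N 2 with hN2 | hN2
  · rcases (show N = 0 ∨ N = 1 by omega) with h0 | h1
    · refine Or.inl fun p => ?_
      rw [h0] at hM
      have h1' : Fintype.card M = 1 := by exact_mod_cast hM
      haveI := Fintype.card_le_one_iff_subsingleton.1 h1'.le
      exact Subsingleton.elim _ _
    · refine Or.inr (Or.inl ⟨fun a b hab => ?_, fun v => ?_⟩)
      · have h : (Finset.univ.filter fun p => q p = q a).card = 1 := by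
          by_cases h0 : q a = 0
          · rw [h0, hfib0]
          · rw [hfibN _ h0, h1]
        exact Finset.card_le_one.1 h.le a (by simp) b (by simp [hab])
      · have h : (Finset.univ.filter fun p => q p = v).card = 1 := by
          by_cases h0 : v = 0
          · rw [h0, hfib0]
          · rw [hfibN _ h0, h1]
        obtain ⟨p, hp⟩ := Finset.card_pos.1 (h.ge : 0 < _)
        exact ⟨p, (Finset.mem_filter.1 hp).2⟩
  · refine Or.inr (Or.inr ?_)
    rcases hT with h | h
    · rw [h, mul_zero] at hSS
      exact absurd (mul_self_eq_zero.1 hSS) (by omega)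
    · rw [h] at hSS
      obtain ⟨i, hi⟩ : ∃ i, Fintype.card R = 2 ^ i := by
        obtain ⟨i, -, hi⟩ := (Nat.dvd_prime_pow Nat.prime_two).1
          (hj ▸ Nat.card_eq_fintype_card (α := M) ▸ Nat.card_eq_fintype_card (α := R) ▸
            R.card_subgroup_dvd_card : Fintype.card R ∣ 2 ^ j)
        exact ⟨i, hi⟩
      rw [hj, hi] at hSS
      have hsq : (N - 1) * (N - 1) = 2 ^ (j + i) := by
        zify [show 1 ≤ N by omega]
        rw [pow_add]
        push_cast at hSS
        linear_combination hSS
      obtain ⟨s, -, hs⟩ := (Nat.dvd_prime_pow Nat.prime_two).1 (Dvd.intro _ hsq)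
      have hMN : Fintype.card M = 1 + 7 * N := by exact_mod_cast hM
      have hN1 : N = 2 ^ s + 1 := by omega
      obtain rfl := two_pow_three_seven (s := s) (j := j) (by rw [← hN1, ← hMN, hj])
      rw [Nat.card_eq_fintype_card, hMN, hN1]
      norm_num

end Cfsg.Agent.Pyramidal
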