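import Cfsg.Agent.Lib.Pyramidal.NoGL.ThreeBasic
import Cfsg.Agent.Lib.Solv.TwoAuto.Main

/-!
# Dimension three: structure of a nonabelian kernel
-/

set_option autoImplicit false
set_option linter.unusedSectionVars false
set_option linter.style.haveILetI false

namespace Cfsg.Agent.Pyramidal

universe u

/-- A fixed point free map of order seven. -/
def singer : V3 ≃ₗ[ZMod 2] V3 where
  toFun x := ![x 2, x 0 + x 2, x 1]
  map_add' x y := by funext i; fin_cases i <;> simp <;> ring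
  map_smul' c x := by funext i; fin_cases i <;> simp [mul_add]
  invFun x := ![x 1 + x 0, x 2, x 0]
  left_inv := by decide
  right_inv := by decide

theorem singer_pow_seven : singer ^ 7 = 1 := LinearEquiv.ext fun v => by
  rw [LinearEquiv.coe_pow]
  revert v
  decide

theorem singer_transitive (v w : V3) (hv : v ≠ 0) (hw : w ≠ 0) :
    ∃ k : ℕ, (singer ^ k) v = w := by
  have h : ∀ v w : V3, v ≠ 0 → w ≠ 0 → ∃ k : Fin 7, (fun x => singer x)^[k] v = w := by decide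
  obtain ⟨k, hk⟩ := h v w hv hw
  exact ⟨k, by rw [LinearEquiv.coe_pow]; exact hk⟩

variable {X : Type u} [Group X] (m : Model X V3)

/-- The subgroup of the vectors. -/
def Model.vecs : Subgroup X where
  carrier := Set.range m.ι
  one_mem' := ⟨0, m.ι_zero⟩
  mul_mem' := by rintro _ _ ⟨v, rfl⟩ ⟨w, rfl⟩; exact ⟨v + w, m.ι_add v w⟩
  inv_mem' := by rintro _ ⟨v, rfl⟩; exact ⟨v, (m.ι_inv v).symm⟩

theorem Model.mem_vecs {x : X} : x ∈ m.vecs ↔ x * x = 1 := (m.sq x).symm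

theorem Model.vecs_le_ker : m.vecs ≤ m.ker := by rintro _ ⟨v, rfl⟩; exact m.ι_mem_ker v

instance Model.vecs_normal : m.vecs.Normal := ⟨fun x hx g =>
  m.mem_vecs.2 (by rw [conj_mul, m.mem_vecs.1 hx, mul_one, mul_inv_cancel])⟩

theorem Model.vecs_comm {x a : X} (hx : x ∈ m.ker) (ha : a ∈ m.vecs) : x * a = a * x := by
  obtain ⟨v, rfl⟩ := ha
  exact hx v

/-- The square of an element, as a vector. -/
noncomputable def Model.sqv (a : X) : V3 := Classical.epsilon fun v => m.ι v = a * a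

theorem Model.sqv_unique {a : X} {v : V3} (h : m.ι v = a * a) : m.sqv a = v :=
  m.ι_inj ((Classical.epsilon_spec (p := fun v => m.ι v = a * a) ⟨v, h⟩).trans h.symm)

theorem Model.mul_vec_sq {x a : X} (hx : x ∈ m.ker) (ha : a ∈ m.vecs) :
    x * a * (x * a) = x * x := by
  rw [mul_assoc, ← mul_assoc a, ← m.vecs_comm hx ha, mul_assoc x a a, m.mem_vecs.1 ha, mul_one]

/-- The squares on the quotient by the vectors. -/
noncomputable def Model.qb (p : X ⧸ m.vecs) : V3 := m.sqv p.out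

theorem Model.qb_mk {a : X} (ha : a ∈ m.ker) : m.qb (QuotientGroup.mk a) = m.sqv a := by
  obtain ⟨e, he⟩ := QuotientGroup.mk_out_eq_mul m.vecs a
  rw [Model.qb, he, Model.sqv, Model.sqv]
  simp only [m.mul_vec_sq ha e.2]

/-- The image of the kernel. -/
def Model.kb : Subgroup (X ⧸ m.vecs) := m.ker.map (QuotientGroup.mk' m.vecs)

instance Model.kb_normal : m.kb.Normal :=
  Subgroup.Normal.map m.ker_normal _ (QuotientGroup.mk'_surjective _)

theorem Model.mk_mem_kb {a : X} (ha : a ∈ m.ker) : QuotientGroup.mk a ∈ m.kb :=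
  ⟨a, ha, rfl⟩

theorem Model.exists_mk_kb {p : X ⧸ m.vecs} (hp : p ∈ m.kb) :
    ∃ a ∈ m.ker, QuotientGroup.mk a = p := by
  obtain ⟨a, ha, rfl⟩ := hp
  exact ⟨a, ha, rfl⟩

/-- Squares of kernel elements are vectors and central kernel elements are vectors. -/
structure Special (m : Model X V3) : Prop where
  sq_mem : ∀ a ∈ m.ker, a * a ∈ m.vecs
  central : ∀ a ∈ m.ker, (∀ b ∈ m.ker, a * b = b * a) → a ∈ m.vecs

/-- A nonabelian kernel is special. -/
theorem special_of_nonabelian [Finite X] (hK : IsPGroup 2 m.ker)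
    (hnab : ∃ x y : m.ker, x * y ≠ y * x) : Special m := by
  classical
  obtain ⟨σ, hσ7, hσ⟩ := exists_lift_order m hK singer (q := 7) (by norm_num) (by norm_num)
    singer_pow_seven
  set k : MulAut m.ker := MulAut.conjNormal σ with hk
  have hk7 : k ^ 7 = 1 := by rw [hk, ← map_pow, hσ7, map_one]
  have hodd : Odd (Nat.card (Subgroup.zpowers k)) := by
    rw [Nat.card_zpowers]
    exact Odd.of_dvd_nat (by decide) (orderOf_dvd_of_pow_eq_one hk7)
  have hinvc : ∀ x : m.ker, x * x = 1 → x ∈ Subgroup.center m.ker := fun x hx =>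
    Subgroup.mem_center_iff.2 fun y => Subtype.ext
      (m.vecs_comm y.2 (m.mem_vecs.2 (congrArg Subtype.val hx)))
  have hvec : ∀ x : m.ker, x ≠ 1 → x * x = 1 → ∃ v, v ≠ 0 ∧ m.ι v = x := by
    intro x hx1 hx
    obtain ⟨v, hv⟩ := (m.sq _).1 (congrArg Subtype.val hx)
    exact ⟨v, fun h0 => hx1 (Subtype.ext (by rw [← hv, h0, m.ι_zero]; rfl)), hv⟩
  have htr : ∀ x y : m.ker, x ≠ 1 → x * x = 1 → y ≠ 1 → y * y = 1 →
      ∃ j ∈ Subgroup.zpowers k, j x = y := by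
    intro x y hx1 hx hy1 hy
    obtain ⟨v, hv0, hv⟩ := hvec x hx1 hx
    obtain ⟨w, hw0, hw⟩ := hvec y hy1 hy
    obtain ⟨j, hj⟩ := singer_transitive v w hv0 hw0
    refine ⟨k ^ j, Subgroup.npow_mem_zpowers k j, Subtype.ext ?_⟩
    rw [hk, ← map_pow, MulAut.conjNormal_apply, ← hv, m.pow_induces hσ, hj, hw]
  have htwo : ∃ x y : m.ker, x ≠ y ∧ x ≠ 1 ∧ x * x = 1 ∧ y ≠ 1 ∧ y * y = 1 := by
    refine ⟨⟨m.ι ![1, 0, 0], m.ι_mem_ker _⟩, ⟨m.ι ![0, 1, 0], m.ι_mem_ker _⟩, fun h => ?_,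
      fun h => ?_, Subtype.ext (m.ι_sq _), fun h => ?_, Subtype.ext (m.ι_sq _)⟩
    · exact absurd (m.ι_inj (congrArg Subtype.val h)) (by decide)
    · exact absurd (m.ι_eq_one.1 (congrArg Subtype.val h)) (by decide)
    · exact absurd (m.ι_eq_one.1 (congrArg Subtype.val h)) (by decide)
  obtain ⟨F, _, _, _, ⟨co⟩⟩ := Solv.TwoAuto.exists_coord hinvc htwo (Subgroup.zpowers k) hodd
    inferInstance htr
  have hz := Solv.TwoAuto.center_sq hK hnab _ hinvc htr (Solv.TwoAuto.noPair hinvc co) co.hg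
    (Solv.TwoAuto.fixed_point_free hK co)
  have hsq := Solv.TwoAuto.sq_central' hK hnab _ hinvc hz htr co
  refine ⟨fun a ha => m.mem_vecs.2 (congrArg Subtype.val (hz _ (hsq ⟨a, ha⟩))),
    fun a ha hc => m.mem_vecs.2 (congrArg Subtype.val (hz ⟨a, ha⟩
      (Subgroup.mem_center_iff.2 fun b => Subtype.ext (hc b b.2).symm)))⟩

namespace Special

variable {m} (h : Special m)
include h

theorem ι_sqv {a : X} (ha : a ∈ m.ker) : m.ι (m.sqv a) = a * a := by
  obtain ⟨v, hv⟩ := h.sq_mem a ha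
  rw [m.sqv_unique hv, hv]

theorem kb_sq {p : X ⧸ m.vecs} (hp : p ∈ m.kb) : p * p = 1 := by
  obtain ⟨a, ha, rfl⟩ := m.exists_mk_kb hp
  exact (QuotientGroup.eq_one_iff _).2 (h.sq_mem a ha)

theorem kb_inv {p : X ⧸ m.vecs} (hp : p ∈ m.kb) : p⁻¹ = p :=
  inv_eq_of_mul_eq_one_right (h.kb_sq hp)

theorem kb_comm {p q : X ⧸ m.vecs} (hp : p ∈ m.kb) (hq : q ∈ m.kb) : p * q = q * p := by
  have := h.kb_inv (mul_mem hp hq)
  rw [mul_inv_rev, h.kb_inv hp, h.kb_inv hq] at this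
  exact this.symm

theorem qb_eq_zero {p : X ⧸ m.vecs} (hp : p ∈ m.kb) : m.qb p = 0 ↔ p = 1 := by
  obtain ⟨a, ha, rfl⟩ := m.exists_mk_kb hp
  rw [m.qb_mk ha, QuotientGroup.eq_one_iff, m.mem_vecs, ← h.ι_sqv ha, m.ι_eq_one]

theorem qb_conj {x : X} {L : V3 ≃ₗ[ZMod 2] V3} (hx : ∀ v, x * m.ι v * x⁻¹ = m.ι (L v))
    {p : X ⧸ m.vecs} (hp : p ∈ m.kb) :
    m.qb (QuotientGroup.mk x * p * (QuotientGroup.mk x)⁻¹) = L (m.qb p) := by
  obtain ⟨a, ha, rfl⟩ := m.exists_mk_kb hp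
  rw [← QuotientGroup.mk_inv, ← QuotientGroup.mk_mul, ← QuotientGroup.mk_mul,
    m.qb_mk (m.ker_normal.conj_mem a ha x), m.qb_mk ha]
  exact m.sqv_unique (by rw [← hx, h.ι_sqv ha, conj_mul])

/-- Commutation is measured by the polar form. -/
theorem swap {a b : X} (ha : a ∈ m.ker) (hb : b ∈ m.ker) :
    b * a = a * b * m.ι (m.sqv (a * b) + m.sqv a + m.sqv b) := by
  have hab : a * b ∈ m.ker := mul_mem ha hb
  rw [m.ι_add, m.ι_add, h.ι_sqv ha, h.ι_sqv hb, h.ι_sqv hab]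
  have ea : (a * a) * (a * a) = 1 := m.mem_vecs.1 (h.sq_mem a ha)
  have eb : (b * b) * (b * b) = 1 := m.mem_vecs.1 (h.sq_mem b hb)
  have eab : (a * b * (a * b)) * (a * b * (a * b)) = 1 := m.mem_vecs.1 (h.sq_mem _ hab)
  have cb : ∀ {z : X}, z ∈ m.vecs → b * z = z * b := fun hz => m.vecs_comm hb hz
  calc b * a = a⁻¹ * (a * b * (a * b)) * b⁻¹ := by group
    _ = a⁻¹ * ((a * a) * (a * a)) * (a * b * (a * b)) * ((b * b) * (b * b)) * b⁻¹ := by
      rw [ea, eb, mul_one, mul_one]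
    _ = a * ((a * a) * (a * b * (a * b)) * (b * b)) * b := by group
    _ = a * b * ((a * a) * (a * b * (a * b)) * (b * b)) := by
      rw [mul_assoc a, ← cb (mul_mem (mul_mem (h.sq_mem a ha) (h.sq_mem _ hab)) (h.sq_mem b hb)),
        ← mul_assoc]
    _ = a * b * (a * b * (a * b) * (a * a) * (b * b)) := by
      rw [m.vecs_comm (m.vecs_le_ker (h.sq_mem a ha)) (h.sq_mem _ hab)]

/-- The polar form is additive. -/
theorem qb_bilin {p q r : X ⧸ m.vecs} (hp : p ∈ m.kb) (hq : q ∈ m.kb) (hr : r ∈ m.kb) :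
    m.qb (p * (q * r)) + m.qb p + m.qb (q * r) =
      m.qb (p * q) + m.qb p + m.qb q + (m.qb (p * r) + m.qb p + m.qb r) := by
  obtain ⟨a, ha, rfl⟩ := m.exists_mk_kb hp
  obtain ⟨b, hb, rfl⟩ := m.exists_mk_kb hq
  obtain ⟨c, hc, rfl⟩ := m.exists_mk_kb hr
  simp only [← QuotientGroup.mk_mul, m.qb_mk ha, m.qb_mk hb, m.qb_mk hc,
    m.qb_mk (mul_mem ha hb), m.qb_mk (mul_mem ha hc), m.qb_mk (mul_mem hb hc),
    m.qb_mk (mul_mem ha (mul_mem hb hc))]
  apply m.ι_inj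
  have h1 := h.swap ha (mul_mem hb hc)
  rw [mul_assoc b, h.swap ha hc, ← mul_assoc b, ← mul_assoc b, h.swap ha hb,
    mul_assoc (a * b), ← hc, mul_assoc (a * b), mul_assoc c, ← m.ι_add, ← mul_assoc,
    mul_assoc a b c] at h1
  exact (mul_left_cancel h1).symm

end Special

end Cfsg.Agent.Pyramidal
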