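import Cfsg.Agent.Lib.Pyramidal.NoGL.ThreeKernel
import Cfsg.Agent.Lib.Pyramidal.NoGL.ThreeCount

/-!
# Dimension three: the possible orders of the kernel modulo the vectors
-/

set_option autoImplicit false
set_option linter.unusedSectionVars false
set_option linter.style.haveILetI false

namespace Cfsg.Agent.Pyramidal

universe u

theorem exists_orth : ∀ f : V3, ∃ c : V3, c ≠ 0 ∧ f 0 * c 0 + f 1 * c 1 + f 2 * c 2 = 0 := by
  decide

variable {X : Type u} [Group X] {m : Model X V3}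

/-- A bijective quadratic map is additive. -/
theorem Special.additive_of_bijective (h : Special m)
    (hb : Function.Bijective fun p : m.kb => m.qb (p : X ⧸ m.vecs))
    (p q : X ⧸ m.vecs) (hp : p ∈ m.kb) (hq : q ∈ m.kb) :
    m.qb (p * q) = m.qb p + m.qb q := by
  have h1 : m.qb 1 = 0 := (h.qb_eq_zero (one_mem _)).2 rfl
  by_cases hp1 : p = 1
  · rw [hp1, one_mul, h1, zero_add]
  by_cases hq1 : q = 1
  · rw [hq1, mul_one, h1, add_zero]
  by_cases hpq : p = q
  · rw [← hpq, h.kb_sq hp, h1, vec_add_self]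
  have inj : ∀ a b, a ∈ m.kb → b ∈ m.kb → m.qb a = m.qb b → a = b := fun a b ha hb' e =>
    congrArg Subtype.val (hb.1 (a₁ := ⟨a, ha⟩) (a₂ := ⟨b, hb'⟩) e)
  have hne : p * q ≠ 1 := fun e => hpq (by
    rw [eq_inv_of_mul_eq_one_left e, h.kb_inv hq])
  refine span_two _ _ _ (fun e => hp1 ((h.qb_eq_zero hp).1 e))
    (fun e => hq1 ((h.qb_eq_zero hq).1 e)) (fun e => hpq (inj p q hp hq e))
    (fun e => hne ((h.qb_eq_zero (mul_mem hp hq)).1 e))
    (fun e => hq1 (mul_eq_left.1 (inj _ _ (mul_mem hp hq) hp e)))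
    (fun e => hp1 (mul_eq_right.1 (inj _ _ (mul_mem hp hq) hq e))) ?_
  intro f hfp hfq
  obtain ⟨c, hc0, hc⟩ := exists_orth f
  let φ : Module.Dual (ZMod 2) V3 :=
    f 0 • LinearMap.proj 0 + f 1 • LinearMap.proj 1 + f 2 • LinearMap.proj 2
  have hφ : ∀ v, φ v = f 0 * v 0 + f 1 * v 1 + f 2 * v 2 := fun v => by simp [φ]
  obtain ⟨x, hx⟩ := m.full (LinearEquiv.transvection (f := φ) (v := c) (by rw [hφ]; exact hc))
  have hfix : ∀ a, a ∈ m.kb → φ (m.qb a) = 0 →
      QuotientGroup.mk x * a * (QuotientGroup.mk x)⁻¹ = a := fun a ha h0 =>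
    inj _ _ (m.kb_normal.conj_mem a ha _) ha (by
      rw [h.qb_conj hx ha, LinearEquiv.transvection.apply, h0, zero_smul, add_zero])
  have hpq' := h.qb_conj hx (mul_mem hp hq)
  rw [← conj_mul, hfix p hp (by rw [hφ]; exact hfp), hfix q hq (by rw [hφ]; exact hfq),
    LinearEquiv.transvection.apply, left_eq_add, smul_eq_zero] at hpq'
  rw [← hφ]
  exact hpq'.resolve_right hc0

/-- Modulo the vectors the kernel has order sixty-four. -/
theorem Special.card_kb [Finite X] (h : Special m) (hnab : ∃ x y : m.ker, x * y ≠ y * x) :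
    Nat.card m.kb = 64 := by
  obtain ⟨σ, hσ⟩ := m.full singer
  rcases fibre_count (M := m.kb) (fun p => Subtype.ext (h.kb_sq p.2))
      (fun p => m.qb (p : X ⧸ m.vecs))
      (fun p => (h.qb_eq_zero p.2).trans ⟨fun e => Subtype.ext e, fun e => congrArg Subtype.val e⟩)
      (fun a b c => h.qb_bilin a.2 b.2 c.2)
      (fun v w hv hw => by
        obtain ⟨k, hk⟩ := singer_transitive v w hv hw
        refine Nat.card_le_card_of_injective
          (fun p => ⟨MulAut.conjNormal (QuotientGroup.mk (σ ^ k)) p.1, ?_⟩) fun p p' e => ?_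
        · show m.qb _ = w
          rw [MulAut.conjNormal_apply, h.qb_conj (m.pow_induces hσ k) p.1.2, p.2, hk]
        · exact Subtype.ext ((MulAut.conjNormal _).injective (congrArg Subtype.val e)))
    with h1 | hb | h64
  · obtain ⟨x, y, hxy⟩ := hnab
    exfalso
    refine hxy (Subtype.ext (m.vecs_comm x.2 ?_))
    exact (QuotientGroup.eq_one_iff _).1 (congrArg Subtype.val (h1 ⟨_, m.mk_mem_kb y.2⟩))
  · obtain ⟨x, y, hxy⟩ := hnab
    exfalso
    refine hxy (Subtype.ext ?_)
    have e := h.additive_of_bijective hb _ _ (m.mk_mem_kb x.2) (m.mk_mem_kb y.2)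
    rw [← QuotientGroup.mk_mul, m.qb_mk x.2, m.qb_mk y.2, m.qb_mk (mul_mem x.2 y.2)] at e
    show (x : X) * y = y * x
    rw [h.swap x.2 y.2, e, add_assoc, vec_add_self, m.ι_zero, mul_one]
  · exact h64

end Cfsg.Agent.Pyramidal
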